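import Groth.Agent.Quot15.XLift
import Groth.Agent.FlatG.Pn
import Groth.Agent.Pic13Lib.IntNum
import Groth.Agent.H23.GrassExist.GrFGA

/-!
# Families of quotients in terms of submodules; Euler characteristics of the fibres
-/

set_option autoImplicit false
set_option linter.style.haveILetI false
set_option linter.unusedSectionVars false
set_option backward.isDefEq.respectTransparency false
set_option backward.isDefEq.respectTransparency.types false
set_option maxHeartbeats 500000

universe u

open CategoryTheory CategoryTheory.Limits AlgebraicGeometry TopologicalSpace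

noncomputable section

namespace Groth.Agent.Quot15

open Groth.Agent Groth.Agent.H28 Groth.Agent.H28.KRRTw

theorem kernelSubobject_eq_iff_same {X : Scheme.{u}} {M L L' : X.Modules} (t : M ⟶ L) (t' : M ⟶ L')
    [Epi t] [Epi t'] : kernelSubobject t = kernelSubobject t' ↔ Same t t' := by
  refine ⟨fun h => ?_, fun ⟨e, he⟩ => ?_⟩
  · obtain ⟨e, he⟩ := H23.GrassExist.exists_iso_of_kerFam_eq t t' ((H23.GrassExist.Fga.kernelSubobject_eq_iff t t').1 h)
    exact ⟨e, he⟩
  · rw [← he]
    exact (QuotSm29.kernelSubobject_comp_iso t e).symm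

theorem quotPull_kernel_eq_iff {S X : Scheme.{u}} {f : X ⟶ S} {E : X.Modules} {T T' : Over S} (g : T' ⟶ T)
    {U : (PicF.XT f T).Modules} (tU : FGA.ET f E T ⟶ U) [Epi tU] {L : (PicF.XT f T').Modules}
    (t : FGA.ET f E T' ⟶ L) [Epi t] :
    FGA.quotPull f E g (kernelSubobject tU) = kernelSubobject t ↔ Same (pullX f g tU) t := by
  haveI : Epi (pullX f g tU) := H23.GrassFlag.epi_quotBC _ tU
  rw [← kernelSubobject_eq_iff_same, QuotSm29.quotPull_kernelSubobject]
  have h : kernelSubobject ((FGA.ETiso f E g).inv ≫ (Scheme.Modules.pullback (PicF.XTmap f g)).map tU) =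
      kernelSubobject (pullX f g tU) :=
    (H23.GrassExist.Fga.kernelSubobject_eq_iff _ _).2 (congrArg H23.GrassExist.kerFam (Category.assoc _ _ _))
  rw [h]

/-- Push-forward along a closed immersion commutes with base change. -/
theorem exists_push_bc {Z Y Z' Y' : Scheme.{u}} {i : Z ⟶ Y} [IsClosedImmersion i] {i' : Z' ⟶ Y'}
    [IsClosedImmersion i'] {g' : Z' ⟶ Z} {g : Y' ⟶ Y} (sq : IsPullback g' i' i g) {N : Z.Modules}
    (hq : Coh.IsQCoh ((Scheme.Modules.pushforward i).obj N))
    (hft : CohB1.IsFT ((Scheme.Modules.pushforward i).obj N)) :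
    Nonempty ((Scheme.Modules.pullback g).obj ((Scheme.Modules.pushforward i).obj N) ≅
      (Scheme.Modules.pushforward i').obj ((Scheme.Modules.pullback g').obj N)) := by
  haveI := kil_pullback sq hq hft (kil_push i N)
  haveI := KExact.isIso_counit_closed i
  exact ⟨asIso ((Scheme.Modules.pullbackPushforwardAdjunction i').unit.app _) ≪≫
    (Scheme.Modules.pushforward i').mapIso ((Scheme.Modules.pullbackComp i' g).app _ ≪≫
      (Scheme.Modules.pullbackCongr sq.w.symm).app _ ≪≫ ((Scheme.Modules.pullbackComp g' i).app _).symm ≪≫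
      (Scheme.Modules.pullback g').mapIso (asIso ((Scheme.Modules.pullbackPushforwardAdjunction i).counit.app N)))⟩

variable {n : ℕ} {S X : Scheme.{u}} (f : X ⟶ S) (i : X ⟶ KRR.PY n S) [IsClosedImmersion i]
  (hf : i ≫ CohB1.ProjSpaceOver.toBase n S = f)

include hf in
theorem exists_twist_iso (T : Over S) (m : ℤ) :
    Nonempty (FGA.ET f ((Scheme.Modules.pullback i).obj (Twist.twistOver n S m)) T ≅
      (Scheme.Modules.pullback (iT f i T)).obj (Twist.twistOver n T.left m)) := by
  obtain ⟨e⟩ := PnBC.pullback_twistOver (n := n) T.hom m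
  exact ⟨(Scheme.Modules.pullbackComp _ _).app _ ≪≫
    (Scheme.Modules.pullbackCongr (iT_ψ f i T hf)).app _ ≪≫
    ((Scheme.Modules.pullbackComp _ _).app _).symm ≪≫ (Scheme.Modules.pullback (iT f i T)).mapIso e⟩

theorem exists_twF_push (T : Over S) [IsClosedImmersion (iT f i T)] (L : (PicF.XT f T).Modules) (m : ℤ) :
    Nonempty (KRR.twF n T.left m ((Scheme.Modules.pushforward (iT f i T)).obj L) ≅
      (Scheme.Modules.pushforward (iT f i T)).obj
        (CohB1.tensorMod L ((Scheme.Modules.pullback (iT f i T)).obj (Twist.twistOver n T.left m)))) := by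
  obtain ⟨c⟩ := H23.PicMul.comm (Twist.twistOver n T.left m) ((Scheme.Modules.pushforward (iT f i T)).obj L)
  haveI := KFlatLib.isIso_projMod_of_isClosedImmersion (iT f i T) L (Twist.twistOver n T.left m)
  exact ⟨c ≪≫ asIso (KFlatLib.projMod (iT f i T) L (Twist.twistOver n T.left m))⟩

/-- The map of fibres. -/
def fibT (T : Over S) (y : T.left) : (FGA.fibreAt f T y).left ⟶ (KRR.pr n T.left).fiber y :=
  pullback.lift (pullback.fst (PicF.XTproj f T) (T.left.fromSpecResidueField y) ≫ iT f i T)
    (pullback.snd (PicF.XTproj f T) (T.left.fromSpecResidueField y))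
    (by rw [Category.assoc, iT_pr]; exact pullback.condition)

theorem fibT_snd (T : Over S) (y : T.left) :
    fibT f i T y ≫ (KRR.pr n T.left).fiberToSpecResidueField y = (FGA.fibreAt f T y).hom :=
  pullback.lift_snd _ _ _

theorem isPullback_fibT (T : Over S) (y : T.left) :
    IsPullback (pullback.fst (PicF.XTproj f T) (T.left.fromSpecResidueField y)) (fibT f i T y) (iT f i T)
      ((KRR.pr n T.left).fiberι y) := by
  refine IsPullback.of_bot (v₂₁ := (KRR.pr n T.left).fiberToSpecResidueField y) (v₂₂ := KRR.pr n T.left)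
    (h₃₁ := T.left.fromSpecResidueField y) ?_ (pullback.lift_fst _ _ _).symm (IsPullback.of_hasPullback _ _)
  rw [iT_pr, fibT_snd]
  exact IsPullback.of_hasPullback (PicF.XTproj f T) (T.left.fromSpecResidueField y)

theorem isProper_fibreAt (T : Over S) (y : T.left) [IsClosedImmersion (iT f i T)] :
    IsProper (FGA.fibreAt f T y).hom := by
  haveI := MorphismProperty.of_isPullback (P := @IsClosedImmersion) (isPullback_fibT f i T y) inferInstance
  haveI : IsProper ((KRR.pr n T.left).fiberToSpecResidueField y) :=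
    MorphismProperty.pullback_snd (KRR.pr n T.left) (T.left.fromSpecResidueField y) (PnFlat.isProper_pr n T.left)
  rw [← fibT_snd f i T y]
  infer_instance

theorem subsingleton_HH_fibreAt (T : Over S) (y : T.left) [IsClosedImmersion (iT f i T)]
    {M : (FGA.fibreAt f T y).left.Modules} (hM : Coh.IsQCoh M) (q : ℕ) (hq : n < q) :
    Subsingleton (Coh.HH (FGA.fibreAt f T y).left M q) := by
  haveI := MorphismProperty.of_isPullback (P := @IsClosedImmersion) (isPullback_fibT f i T y) inferInstance
  have h1 : IsPullback ((KRR.pr n T.left).fiberι y ≫ toPn n T.left) ((KRR.pr n T.left).fiberToSpecResidueField y)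
      (CohB1.ProjSpace.toSpec n (ULift.{u} ℤ)) (T.left.fromSpecResidueField y ≫ specULiftZIsTerminal.from T.left) :=
    (IsPullback.of_hasPullback (KRR.pr n T.left) (T.left.fromSpecResidueField y)).paste_horiz
      (IsPullback.of_hasPullback (CohB1.ProjSpace.toSpec n (ULift.{u} ℤ)) (specULiftZIsTerminal.from T.left))
  haveI : IsAffineHom ((KRR.pr n T.left).fiberι y ≫ toPn n T.left) :=
    MorphismProperty.of_isPullback h1.flip inferInstance
  let g := fibT f i T y ≫ (KRR.pr n T.left).fiberι y ≫ toPn n T.left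
  haveI : IsAffineHom g := inferInstanceAs (IsAffineHom (fibT f i T y ≫ _))
  haveI := isProper_fibreAt f i T y
  haveI : (FGA.fibreAt f T y).left.IsSeparated := ⟨by
    rw [show terminal.from (FGA.fibreAt f T y).left = (FGA.fibreAt f T y).hom ≫ terminal.from _ from
      Subsingleton.elim _ _]
    infer_instance⟩
  refine QCoh.HH_subsingleton_of_cover (n + 1)
    (fun j => g ⁻¹ᵁ PnCoh.Finite.D (CohB1.polyGrading n (ULift.{u} ℤ)) (KRRReg.crd.{u} n ⟨j⟩))
    (fun j => (Proj.isAffineOpen_basicOpen _ _ (KRRReg.crd_mem ⟨j⟩) Nat.one_pos).preimage _)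
    (by rw [← Scheme.Hom.preimage_iSup, show (⨆ j : Fin (n + 1), PnCoh.Finite.D (CohB1.polyGrading n (ULift.{u} ℤ))
      (KRRReg.crd.{u} n ⟨j⟩)) = ⊤ from (Equiv.ulift.symm.iSup_comp).trans KRRReg.crd_cover, Scheme.Hom.preimage_top])
    (fun V W hV hW => hV.inf hW) hM q hq

include hf in
/-- The Euler characteristics upstairs are those of the fibres of the closed subscheme. -/
theorem chi_push_eq (T : Over S) [IsLocallyNoetherian T.left] {L : (PicF.XT f T).Modules} (hL : Coh.IsCoh L)
    (y : T.left) (m : ℤ) :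
    FGA.eulerCharLE (T.left.residueField y) (FGA.fibreAt f T y).left
        (CohB1.tensorMod (FGA.restrFibre f T y L)
          (FGA.restrFibre f T y (FGA.ET f ((Scheme.Modules.pullback i).obj (Twist.twistOver n S m)) T))) n =
      chi T.left ((Scheme.Modules.pushforward (iT f i T)).obj L) y m := by
  haveI := isClosedImmersion_iT f i hf T
  haveI := isLocallyNoetherian_PY (n := n) T.left
  let k := T.left.residueField y
  let F := (FGA.fibreAt f T y).left
  let P := (KRR.pr n T.left).fiber y
  letI iF : F.Over (Spec (CommRingCat.of k)) := ⟨(FGA.fibreAt f T y).hom⟩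
  letI iP : P.Over (Spec (CommRingCat.of k)) := ⟨(KRR.pr n T.left).fiberToSpecResidueField y⟩
  haveI : IsProper (P ↘ Spec (CommRingCat.of k)) :=
    MorphismProperty.pullback_snd (KRR.pr n T.left) (T.left.fromSpecResidueField y) (PnFlat.isProper_pr n T.left)
  haveI := MorphismProperty.of_isPullback (P := @IsClosedImmersion) (isPullback_fibT f i T y) inferInstance
  let ι' := pullback.fst (PicF.XTproj f T) (T.left.fromSpecResidueField y)
  let N := CohB1.tensorMod L ((Scheme.Modules.pullback (iT f i T)).obj (Twist.twistOver n T.left m))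
  obtain ⟨et⟩ := exists_twist_iso f i hf T m
  obtain ⟨ep⟩ := H23.PicMul.pull ι' L ((Scheme.Modules.pullback (iT f i T)).obj (Twist.twistOver n T.left m))
  have hiso : Nonempty (CohB1.tensorMod (FGA.restrFibre f T y L)
      (FGA.restrFibre f T y (FGA.ET f ((Scheme.Modules.pullback i).obj (Twist.twistOver n S m)) T)) ≅
      (Scheme.Modules.pullback ι').obj N) :=
    ⟨(DCoh.tensorBi.obj (FGA.restrFibre f T y L)).mapIso ((Scheme.Modules.pullback ι').mapIso et) ≪≫ ep.symm⟩
  obtain ⟨e⟩ := hiso
  have hNq : Coh.IsQCoh N := KFlatLib.isQCoh_tensor hL.1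
    (QCoh.isQCoh_pullback _ (QCoh.isQCoh_of_isFinLocFree (PnFlat.lf_twistOver m)))
  have hN' : Coh.IsQCoh ((Scheme.Modules.pullback ι').obj N) := QCoh.isQCoh_pullback _ hNq
  have h1 : ∀ M : F.Modules, Coh.IsQCoh M → FGA.eulerCharLE k F M n = Curv2.euler k F M := fun M hM => by
    unfold FGA.eulerCharLE Curv2.euler
    refine (finsum_eq_sum_of_support_subset _ fun q hq => ?_).symm
    simp only [Finset.coe_range, Set.mem_Iio]
    by_contra hlt
    haveI := subsingleton_HH_fibreAt f i T y hM q (by omega)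
    refine hq ?_
    simp only [Module.finrank_zero_of_subsingleton, Nat.cast_zero, mul_zero]
  obtain ⟨et'⟩ := exists_twF_push f i T L m
  have hc : Coh.IsCoh ((Scheme.Modules.pushforward (iT f i T)).obj N) :=
    isCoh_of_iso et' (QCoh.isCoh_iff_isFP.2 (PnFlat.isFP_twF
      (QCoh.isCoh_iff_isFP.1 (QCoh.isCoh_pushforward_finite _ hL)) m))
  obtain ⟨eb⟩ := exists_push_bc (isPullback_fibT f i T y) hc.1 (QCoh.isFT_of_isFP (QCoh.isCoh_iff_isFP.1 hc))
  calc _ = Curv2.euler k F ((Scheme.Modules.pullback ι').obj N) :=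
        (h1 _ ((QCoh.isQCoh_iff_iso e).2 hN')).trans (CurveCohLib.euler_congr (k := k) e)
    _ = Curv2.euler k P ((Coh.push (fibT f i T y)).obj ((Scheme.Modules.pullback ι').obj N)) :=
        (Pic13Lib.euler_push (k := k) (fibT f i T y) (fibT_snd f i T y) hN').symm
    _ = _ := (CurveCohLib.euler_congr (k := k)
        ((Scheme.Modules.pullback ((KRR.pr n T.left).fiberι y)).mapIso et' ≪≫ eb)).symm

end Groth.Agent.Quot15

end
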