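import Groth.Agent.QCoh.FlatBC
import Groth.Agent.ExistEasy.PP.PullSec
import Groth.Agent.QCoh.Support
import Groth.Agent.QCoh.Extension
import Groth.Agent.QCoh.Stalk
import Groth.Agent.LimModLib.FlatDescent
import Groth.Agent.W4Lib.Flat
import Groth.Agent.H28.PnFlat
import Groth.Agent.FlatBC5.Basic
import Groth.Agent.SeesawX.PnFibre
import Groth.Prelude.Def_GrassD

/-!
# Base change of short exact sequences with flat quotient
-/

set_option autoImplicit false
set_option linter.style.haveILetI false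
set_option linter.unusedSectionVars false
set_option backward.isDefEq.respectTransparency false
set_option backward.isDefEq.respectTransparency.types false
set_option maxHeartbeats 800000

universe u

open CategoryTheory CategoryTheory.Limits AlgebraicGeometry TopologicalSpace Opposite
open scoped TensorProduct

noncomputable section

namespace Groth.Agent.Quot15

open Groth.Agent

theorem injective_of_isBaseChange {A B : Type u} [CommRing A] [CommRing B] [Algebra A B]
    {M M' N N' : Type u} [AddCommGroup M] [Module A M] [AddCommGroup M'] [Module A M']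
    [AddCommGroup N] [Module A N] [Module B N] [IsScalarTower A B N]
    [AddCommGroup N'] [Module A N'] [Module B N'] [IsScalarTower A B N']
    {l₁ : M →ₗ[A] N} {l₂ : M' →ₗ[A] N'} (b₁ : IsBaseChange B l₁) (b₂ : IsBaseChange B l₂)
    (f : M →ₗ[A] M') (F : N →ₗ[B] N') (h : ∀ x, F (l₁ x) = l₂ (f x))
    (hf : Function.Injective (f.lTensor B)) : Function.Injective F := by
  have key : ∀ w : B ⊗[A] M, F (b₁.equiv w) = b₂.equiv (f.lTensor B w) := fun w => by
    induction w using TensorProduct.induction_on with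
    | zero => simp
    | add a b ha hb => rw [map_add, map_add, map_add, map_add, ha, hb]
    | tmul c x => rw [IsBaseChange.equiv_tmul, LinearMap.lTensor_tmul, IsBaseChange.equiv_tmul, map_smul, h]
  intro x y hxy
  obtain ⟨x, rfl⟩ := b₁.equiv.surjective x
  obtain ⟨y, rfl⟩ := b₁.equiv.surjective y
  rw [key, key] at hxy
  exact congrArg _ (hf (b₂.equiv.injective hxy))

/-- Base change along a morphism of affine bases. -/
theorem mono_pullback_affine {A B : Type u} [CommRing A] [CommRing B] [Algebra A B] {X Y : Scheme.{u}}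
    {f : X ⟶ Spec (CommRingCat.of A)} {g : Y ⟶ Spec (CommRingCat.of B)} {i : Y ⟶ X}
    (sq : IsPullback i g f (Spec.map (CommRingCat.ofHom (algebraMap A B))))
    {S : ShortComplex X.Modules} (hS : S.ShortExact) (h₁ : Coh.IsQCoh S.X₁) (h₂ : Coh.IsQCoh S.X₂)
    (h₃ : Coh.IsQCoh S.X₃) (hfl : FlatMod.IsFlatOver f S.X₃) :
    Mono ((Scheme.Modules.pullback i).map S.f) := by
  haveI := hS.mono_f
  haveI := hS.epi_g
  have hi : IsAffineHom i := MorphismProperty.of_isPullback sq.flip inferInstance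
  let F := (Scheme.Modules.pullback i).map S.f
  have hinj : ∀ U : X.Opens, IsAffineOpen U → Function.Injective (F.app (i ⁻¹ᵁ U)) := by
    intro U hU
    let ρ := Coh.toGlobal f
    let ρ' := Coh.toGlobal g
    let V := i ⁻¹ᵁ U
    let N₁ := (Scheme.Modules.pullback i).obj S.X₁
    let N₂ := (Scheme.Modules.pullback i).obj S.X₂
    letI := QCoh.secModule ρ S.X₁ U
    letI := QCoh.secModule ρ S.X₂ U
    letI := QCoh.secModule ρ S.X₃ U
    letI := QCoh.secModule ρ' N₁ V
    letI := QCoh.secModule ρ' N₂ V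
    letI := QCoh.secModule (ρ'.comp (algebraMap A B)) N₁ V
    letI := QCoh.secModule (ρ'.comp (algebraMap A B)) N₂ V
    haveI : IsScalarTower A B Γ(N₁, V) := .of_algebraMap_smul fun _ _ => rfl
    haveI : IsScalarTower A B Γ(N₂, V) := .of_algebraMap_smul fun _ _ => rfl
    letI : Module A Γ((𝟭 X.Modules).obj S.X₁, U) := QCoh.secModule ρ S.X₁ U
    letI : Module A Γ((𝟭 X.Modules).obj S.X₂, U) := QCoh.secModule ρ S.X₂ U
    have b₁ := QCoh.isAffineBC_of_isPullback sq h₁ U hU
    have b₂ := QCoh.isAffineBC_of_isPullback sq h₂ U hU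
    let l : Γ(S.X₁, U) →ₗ[A] Γ(S.X₂, U) :=
      { toFun := S.f.app U
        map_add' := map_add (S.f.app U).hom
        map_smul' := fun a z => Scheme.Modules.Hom.app_smul S.f _ z }
    let p : Γ(S.X₂, U) →ₗ[A] Γ(S.X₃, U) :=
      { toFun := S.g.app U
        map_add' := map_add (S.g.app U).hom
        map_smul' := fun a z => Scheme.Modules.Hom.app_smul S.g _ z }
    let lB : Γ(N₁, V) →ₗ[B] Γ(N₂, V) :=
      { toFun := F.app V
        map_add' := map_add (F.app V).hom
        map_smul' := fun a z => Scheme.Modules.Hom.app_smul F _ z }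
    have hp : Function.Surjective p := QCoh.app_surjective_of_epi h₂ h₃ S.g hU
    have hex : Function.Exact l p := fun z => ⟨fun hz => QCoh.exists_app_f_eq hS U z hz, by
      rintro ⟨w, rfl⟩
      exact congr(($(S.zero)).app U w)⟩
    have hl : Function.Injective l := QCoh.app_injective S.f U
    haveI : Module.Flat A Γ(S.X₃, U) := by
      letI m2 : Module Γ(Spec (CommRingCat.of A), ⊤) Γ(S.X₃, U) := Module.compHom _ (f.appLE ⊤ U le_top).hom
      haveI := (QCoh.isFlatOver_iff f h₃).1 hfl U ⊤ le_top hU (isAffineOpen_top _)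
      let e := (Scheme.ΓSpecIso (CommRingCat.of A)).symm.commRingCatIsoToRingEquiv
      letI : Algebra A Γ(Spec (CommRingCat.of A), ⊤) := e.toRingHom.toAlgebra
      haveI : IsScalarTower A Γ(Spec (CommRingCat.of A), ⊤) Γ(S.X₃, U) := .of_algebraMap_smul fun _ _ => rfl
      haveI : Module.Flat A Γ(Spec (CommRingCat.of A), ⊤) :=
        Module.Flat.of_linearEquiv (AlgEquiv.ofRingEquiv (f := e) fun _ => rfl).symm.toLinearEquiv
      exact Module.Flat.trans A Γ(Spec (CommRingCat.of A), ⊤) Γ(S.X₃, U)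
    have hL : Function.Injective (l.lTensor B) := W4Lib.lTensor_injective_of_flat_quotient hl hex hp B
    exact injective_of_isBaseChange b₁ b₂ l lB (fun x => ExistEasy.pullSec_natural i S.f le_rfl x) hL
  have hk : Coh.IsQCoh (kernel F) := QCoh.isQCoh_kernel (QCoh.isQCoh_pullback i h₁) (QCoh.isQCoh_pullback i h₂) F
  refine Preadditive.mono_of_isZero_kernel _ (QCoh.isZero_of_cover hk (fun U : X.affineOpens => i ⁻¹ᵁ U.1)
    (fun U => U.2.preimage i) (fun y => ?_) fun U => ⟨fun a b => QCoh.app_injective (kernel.ι F) _ ?_⟩)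
  · obtain ⟨_, ⟨U, hU, rfl⟩, hy, -⟩ :=
      X.isBasis_affineOpens.exists_subset_of_mem_open (Set.mem_univ (i y)) isOpen_univ
    exact ⟨⟨U, hU⟩, hy⟩
  · refine hinj U.1 U.2 ?_
    have h0 := kernel.condition F
    exact (congr(($h0).app (i ⁻¹ᵁ U.1) a)).trans (congr(($h0).app (i ⁻¹ᵁ U.1) b)).symm

/-- Inverse image preserves such sequences along a square over affine bases. -/
theorem shortExact_pullback_affine {A B : Type u} [CommRing A] [CommRing B] [Algebra A B] {X Y : Scheme.{u}}
    {f : X ⟶ Spec (CommRingCat.of A)} {g : Y ⟶ Spec (CommRingCat.of B)} {i : Y ⟶ X}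
    (sq : IsPullback i g f (Spec.map (CommRingCat.ofHom (algebraMap A B))))
    {S : ShortComplex X.Modules} (hS : S.ShortExact) (h₁ : Coh.IsQCoh S.X₁) (h₂ : Coh.IsQCoh S.X₂)
    (h₃ : Coh.IsQCoh S.X₃) (hfl : FlatMod.IsFlatOver f S.X₃) :
    (S.map (Scheme.Modules.pullback i)).ShortExact := by
  haveI : Mono (S.map (Scheme.Modules.pullback i)).f := mono_pullback_affine sq hS h₁ h₂ h₃ hfl
  haveI := hS.epi_g
  haveI : (Scheme.Modules.pullback i).IsLeftAdjoint :=
    (Scheme.Modules.pullbackPushforwardAdjunction i).isLeftAdjoint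
  exact ShortComplex.ShortExact.mk' (hS.exact.map_of_epi_of_preservesCokernel _ hS.epi_g inferInstance)
    inferInstance (Grass.epi_pullback_map i S.g)

/-- Exactness on the fibres of projective space. -/
theorem shortExact_pullback_fibre {n : ℕ} {T : Scheme.{u}} (y : T) {S : ShortComplex (KRR.PY n T).Modules}
    (hS : S.ShortExact) (h₁ : Coh.IsQCoh S.X₁) (h₂ : Coh.IsQCoh S.X₂) (h₃ : Coh.IsQCoh S.X₃)
    (hfl : FlatMod.IsFlatOver (KRR.pr n T) S.X₃) :
    (S.map (Scheme.Modules.pullback (H28.PnFlat.jy n T y))).ShortExact := by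
  obtain ⟨_, ⟨V, hV, rfl⟩, hy, -⟩ :=
    T.isBasis_affineOpens.exists_subset_of_mem_open (Set.mem_univ y) isOpen_univ
  have hV' : IsAffineOpen V := hV
  let W := Spec Γ(T, V)
  obtain ⟨ℓ, hℓ⟩ : ∃ ℓ : Spec (T.residueField y) ⟶ W, ℓ ≫ hV'.fromSpec = T.fromSpecResidueField y :=
    ⟨IsOpenImmersion.lift hV'.fromSpec (T.fromSpecResidueField y) (by
      rintro _ ⟨z, rfl⟩
      rw [Scheme.fromSpecResidueField_apply, hV'.range_fromSpec]
      exact hy), IsOpenImmersion.lift_fac _ _ _⟩
  obtain ⟨φ, rfl⟩ : ∃ φ, Spec.map φ = ℓ := ⟨Spec.preimage _, Spec.map_preimage _⟩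
  letI : Algebra Γ(T, V) (T.residueField y) := φ.hom.toAlgebra
  let j₁ := H28.PnBC.ψ (n := n) hV'.fromSpec
  let j₂ := H28.PnBC.ψ (n := n) (Spec.map φ)
  have hflat : Flat j₁ :=
    MorphismProperty.of_isPullback (SeesawX.PnFibre.isPullback_ψ (n := n) hV'.fromSpec).flip inferInstance
  haveI := hflat
  haveI := hS.mono_f
  haveI := hS.epi_g
  haveI : (Scheme.Modules.pullback j₁).IsLeftAdjoint :=
    (Scheme.Modules.pullbackPushforwardAdjunction j₁).isLeftAdjoint
  haveI : Mono (S.map (Scheme.Modules.pullback j₁)).f := LimModLib.mono_pullback_of_flat j₁ h₁ h₂ S.f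
  have hS₁ : (S.map (Scheme.Modules.pullback j₁)).ShortExact :=
    ShortComplex.ShortExact.mk' (hS.exact.map_of_epi_of_preservesCokernel _ hS.epi_g inferInstance)
      inferInstance (Grass.epi_pullback_map j₁ S.g)
  have hS₂ := shortExact_pullback_affine (A := Γ(T, V)) (B := T.residueField y)
    (SeesawX.PnFibre.isPullback_ψ (n := n) (Spec.map φ)) hS₁ (QCoh.isQCoh_pullback j₁ h₁)
    (QCoh.isQCoh_pullback j₁ h₂) (QCoh.isQCoh_pullback j₁ h₃)
    (FlatBC5.isFlatOver_of_baseChange (SeesawX.PnFibre.isPullback_ψ (n := n) hV'.fromSpec) h₃ hfl)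
  have hc : j₂ ≫ j₁ = H28.PnFlat.jy n T y := by
    refine pullback.hom_ext ?_ ?_
    · rw [Category.assoc, H28.PnBC.ψ_toPn, H28.PnBC.ψ_toPn]
      exact (H28.PnBC.ψ_toPn (n := n) (T.fromSpecResidueField y)).symm
    · show (j₂ ≫ j₁) ≫ KRR.pr n T = H28.PnFlat.jy n T y ≫ KRR.pr n T
      rw [Category.assoc, H28.PnBC.ψ_pr, ← Category.assoc, H28.PnBC.ψ_pr, H28.PnBC.ψ_pr, Category.assoc, hℓ]
  exact ShortComplex.shortExact_of_iso (S.mapNatIso
    (Scheme.Modules.pullbackComp j₂ j₁ ≪≫ Scheme.Modules.pullbackCongr hc)) hS₂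

end Groth.Agent.Quot15

end
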