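import Groth.Agent.Quot15.Fam
import Groth.Agent.Quot15.PullExact
import Groth.Agent.S4654
import Groth.Agent.S16625
import Groth.Agent.H28.FlatPr
import Groth.Agent.KZ.LFRes

/-!
# Direct images of regular families of quotients
-/

set_option autoImplicit false
set_option linter.style.haveILetI false
set_option linter.unusedSectionVars false
set_option backward.isDefEq.respectTransparency false
set_option backward.isDefEq.respectTransparency.types false
set_option maxHeartbeats 500000

universe u

open CategoryTheory CategoryTheory.Limits AlgebraicGeometry TopologicalSpace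

noncomputable section

namespace Groth.Agent.Quot15

open Groth.Agent Groth.Agent.H28 Groth.Agent.H28.KRRTw Groth.Agent.H28.KRRReg

variable {n : ℕ} {E : (CohB1.ProjSpace n (ULift.{u} ℤ)).Modules}

variable (E) in
/-- The fibres of the families and of their kernels are regular. -/
def Good (Φ : Polynomial ℚ) : Prop :=
  ∀ (T : Scheme.{u}) [IsLocallyNoetherian T] (L : (KRR.PY n T).Modules) (t : ET E T ⟶ L), Fam Φ t →
    ∀ y : T, PnFlat.IsFReg 0 L y ∧ PnFlat.IsFReg 0 (kernel t) y

/-- The rank of the direct images. -/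
def rk (Φ : Polynomial ℚ) : ℕ := ⌊Φ.eval (0 : ℚ)⌋.toNat

theorem flat_pr (n : ℕ) (T : Scheme.{u}) : Flat (KRR.pr n T) :=
  MorphismProperty.pullback_snd _ _ (FlatPr.flat_toSpec n)

section Kernel

variable (hlf : FlatMod.IsFinLocFree E) {T : Scheme.{u}} [IsLocallyNoetherian T]
  {L : (KRR.PY n T).Modules} {t : ET E T ⟶ L} {Φ : Polynomial ℚ} (h : Fam Φ t)

include hlf in
theorem isFinLocFree_ET (T : Scheme.{u}) : FlatMod.IsFinLocFree (ET E T) :=
  KFlatLib.isFinLocFree_pullback _ hlf

include hlf in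
theorem isFlatOver_ET (T : Scheme.{u}) : FlatMod.IsFlatOver (KRR.pr n T) (ET E T) :=
  haveI := flat_pr n T
  FlatPr.isFlatOver_of_isFinLocFree _ (isFinLocFree_ET hlf T)

include h in
theorem shortExact_fam : (ShortComplex.mk (kernel.ι t) t (kernel.condition t)).ShortExact :=
  haveI := h.epi
  { exact := ShortComplex.exact_kernel t, mono_f := inferInstance, epi_g := inferInstance }

include hlf h in
theorem isCoh_ker : Coh.IsCoh (kernel t) := by
  haveI := isLocallyNoetherian_PY (n := n) T
  exact QCoh.isCoh_kernel (KZ.LFRes.flf_isCoh (isFinLocFree_ET hlf T)) h.coh t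

include hlf h in
theorem isFlatOver_ker : FlatMod.IsFlatOver (KRR.pr n T) (kernel t) :=
  haveI := isLocallyNoetherian_PY (n := n) T
  (S4654.result (KRR.pr n T) _ (shortExact_fam h) (isCoh_ker hlf h).1
    (KZ.LFRes.flf_isCoh (isFinLocFree_ET hlf T)).1 h.coh.1 h.flat).1 (isFlatOver_ET hlf T)

end Kernel

section Reg

variable {T : Scheme.{u}} [IsLocallyNoetherian T] {M : (KRR.PY n T).Modules} (hM : Coh.IsCoh M)
  (hfl : FlatMod.IsFlatOver (KRR.pr n T) M) (hreg : ∀ y : T, PnFlat.IsFReg 0 M y)

include hM hfl hreg in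
/-- Regularity from regularity on the fibres. -/
theorem isReg_of_fibres : KRR.IsRegSheaf n T M := fun i hi => by
  haveI := isLocallyNoetherian_PY (n := n) T
  obtain hin | hin := Nat.lt_or_ge n i
  · exact PnBox.rz_of_lt (isQCoh_twF hM.1 _) i hin
  · have hfp : CohB1.IsFP M := QCoh.isCoh_iff_isFP.1 hM
    refine S16625.rz_of_fibres (PnFlat.isFP_twF hfp _) (PnFlat.isFlatOver_twF hfl _) i hi fun y => ?_
    have h := hreg y i (Finset.mem_Icc.2 ⟨hi, hin⟩)
    rwa [Nat.cast_zero, zero_sub] at h

include hM hfl hreg in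
/-- The direct image is locally free of the rank given by the Euler characteristic. -/
theorem rank_push (r : ℕ) (hr : ∀ y : T, (chi T M y 0).toNat = r) :
    FlatMod.IsFinLocFreeOfRank r ((Scheme.Modules.pushforward (KRR.pr n T)).obj M) := by
  haveI := PnFlat.isProper_pr n T
  haveI := PnFlat.lfp_pr n T
  haveI := isLocallyNoetherian_PY (n := n) T
  haveI : HasInjectiveResolutions (KRR.PY n T).Modules := KFlatLib.hasInjectiveResolutions_modules
  have hfp : CohB1.IsFP M := QCoh.isCoh_iff_isFP.1 hM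
  let M₀ := KRR.twF n T 0 M
  have hv : ∀ y q, Subsingleton (CohIII.fiberH (KRR.pr n T) M₀ y (q + 1)) := fun y q =>
    PnFlat.fibre_vanish hfp (hreg y) 0 le_rfl q
  intro y
  obtain ⟨U, hyU, ⟨e⟩⟩ := CohPullX.exists_free_of_neighbours (PnFlat.isFP_twF hfp 0)
    (PnFlat.isFlatOver_twF hfl 0) y 0 (hv y 0) fun j hj => by omega
  have hrank : CohIII.fiberRank (KRR.pr n T) M₀ 0 y = r := by
    have h0 := hr y
    letI : ((KRR.pr n T).fiber y).Over (Spec (CommRingCat.of (T.residueField y))) :=
      ⟨(KRR.pr n T).fiberToSpecResidueField y⟩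
    rw [chi, CurveCohLib.euler_eq_sum (k := T.residueField y) (N := 1) (fun i hi => by
      obtain ⟨q, rfl⟩ : ∃ q, i = q + 1 := ⟨i - 1, by omega⟩
      exact hv y q)] at h0
    rw [Finset.sum_range_one, pow_zero, one_mul, Int.toNat_natCast] at h0
    exact h0
  haveI := SpObjSS.enoughInjectives_of_hasInjectiveResolutions (C := (KRR.PY n T).Modules)
  haveI := QCoh.preservesFiniteLimits_push (KRR.pr n T)
  exact ⟨U, hyU, ⟨(Scheme.Modules.restrictFunctor U.ι).mapIso
    ((Scheme.Modules.pushforward (KRR.pr n T)).mapIso (twF_zero M).some.symm ≪≫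
      ((Scheme.Modules.pushforward (KRR.pr n T)).rightDerivedZeroIsoSelf.app M₀).symm) ≪≫
    e ≪≫ eqToIso (congrArg (FlatMod.freeMod (U : Scheme.{u})) hrank)⟩⟩

end Reg

section Family

variable (hlf : FlatMod.IsFinLocFree E) {Φ : Polynomial ℚ} (hG : Good E Φ) {T : Scheme.{u}}
  [IsLocallyNoetherian T] {L : (KRR.PY n T).Modules} {t : ET E T ⟶ L} (h : Fam Φ t)

include hlf hG h in
theorem isReg_quot : KRR.IsRegSheaf n T L := isReg_of_fibres h.coh h.flat fun y => (hG T L t h y).1

include hlf hG h in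
theorem isReg_ker : KRR.IsRegSheaf n T (kernel t) :=
  isReg_of_fibres (isCoh_ker hlf h) (isFlatOver_ker hlf h) fun y => (hG T L t h y).2

include hlf hG h in
theorem epi_push : Epi ((Scheme.Modules.pushforward (KRR.pr n T)).map t) :=
  RKoszul.epi_push_map (KRR.pr n T) (shortExact_fam h)
    (RKoszul.rz_of_iso _ (twF_zero _).some 1 (rz_self _ (isReg_twF _ (isReg_ker hlf hG h) 0) 1 le_rfl))

include hlf hG h in
theorem epi_counit_ker : Epi (RegRes.eps (kernel t)) :=
  KRREpi.epi_counit _ (isCoh_ker hlf h).1 (isReg_ker hlf hG h)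

include hlf hG h in
theorem epi_counit_quot : Epi (RegRes.eps L) :=
  KRREpi.epi_counit _ h.coh.1 (isReg_quot hlf hG h)

include hlf hG h in
theorem rank_push_quot :
    FlatMod.IsFinLocFreeOfRank (rk Φ) ((Scheme.Modules.pushforward (KRR.pr n T)).obj L) :=
  rank_push h.coh h.flat (fun y => (hG T L t h y).1) (rk Φ) fun y => by
    have h0 := h.hil y 0
    rw [Int.cast_zero] at h0
    rw [rk, ← h0, Int.floor_intCast]

end Family

end Groth.Agent.Quot15

end
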