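import Groth.Agent.Quot15.Push
import Groth.Agent.Quot15.Regular
import Groth.Agent.SeesawX.Basic
import Mathlib.CategoryTheory.Limits.Preserves.Shapes.Pullbacks

/-!
# A family of quotients as a pushout of a quotient of the base module
-/

set_option autoImplicit false
set_option linter.style.haveILetI false
set_option linter.unusedSectionVars false
set_option backward.isDefEq.respectTransparency false
set_option backward.isDefEq.respectTransparency.types false
set_option maxHeartbeats 500000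

universe u

open CategoryTheory CategoryTheory.Limits AlgebraicGeometry TopologicalSpace

noncomputable section

namespace Groth.Agent.Quot15

open Groth.Agent Groth.Agent.H28 Groth.Agent.H28.KRRTw Grass

variable {n : ℕ} {E : (CohB1.ProjSpace n (ULift.{u} ℤ)).Modules}

/-- A family cut out by a quotient of the base module. -/
def Cart {T : Scheme.{u}} {L₀ : T.Modules} (t₀ : (Scheme.Modules.pullback (toB T)).obj (G₀ E) ⟶ L₀)
    {L : (KRR.PY n T).Modules} (t : ET E T ⟶ L) : Prop :=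
  ∃ u : (Scheme.Modules.pullback (KRR.pr n T)).obj L₀ ⟶ L, IsPushout (β E T) (qpr E t₀) t u

variable {T T' : Scheme.{u}} {L₀ L₀' : T.Modules} {t₀ : (Scheme.Modules.pullback (toB T)).obj (G₀ E) ⟶ L₀}
  {t₀' : (Scheme.Modules.pullback (toB T)).obj (G₀ E) ⟶ L₀'} {L L' : (KRR.PY n T).Modules} {t : ET E T ⟶ L}
  {t' : ET E T ⟶ L'}

theorem Cart.congr_left (h : Cart t₀ t) (hs : Same t₀ t₀') : Cart t₀' t := by
  obtain ⟨u, hu⟩ := h
  obtain ⟨e, he⟩ := hs
  refine ⟨((Scheme.Modules.pullback (KRR.pr n T)).mapIso e).inv ≫ u,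
    hu.of_iso (Iso.refl _) (Iso.refl _) ((Scheme.Modules.pullback (KRR.pr n T)).mapIso e) (Iso.refl _) ?_ ?_ ?_ ?_⟩
  · simp
  · rw [Iso.refl_hom, Category.id_comp]
    exact H23.GrassExist.quotBC_iso (pr_toB (n := n) T) e he
  · simp
  · rw [Iso.refl_hom, Category.comp_id, Iso.hom_inv_id_assoc]

theorem Cart.congr_right (h : Cart t₀ t) (hs : Same t t') : Cart t₀ t' := by
  obtain ⟨u, hu⟩ := h
  obtain ⟨e, he⟩ := hs
  exact ⟨u ≫ e.hom, hu.of_iso (Iso.refl _) (Iso.refl _) (Iso.refl _) e (by simp) (by simp) (by simp [he]) (by simp)⟩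

theorem Cart.same (h : Cart t₀ t) (h' : Cart t₀ t') : Same t t' := by
  obtain ⟨u, hu⟩ := h
  obtain ⟨u', hu'⟩ := h'
  exact ⟨hu.isoIsPushout _ _ hu', hu.inl_isoIsPushout_hom _ _ hu'⟩

theorem Cart.pull (h : Cart t₀ t) (g : T' ⟶ T) :
    Cart (quotBC (specULiftZIsTerminal.hom_ext (g ≫ toB T) (toB T')) t₀) (pull g t) := by
  obtain ⟨u, hu⟩ := h
  let a := PnBC.ψ (n := n) g
  let J := Scheme.Modules.pullback a
  haveI : J.IsLeftAdjoint := (Scheme.Modules.pullbackPushforwardAdjunction a).isLeftAdjoint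
  let e₁ := H23.GrassExist.θ (G₀ E) a (ψ_ω (n := n) g)
  let e₂ : J.obj (ET E T) ≅ ET E T' := H23.GrassExist.θ E a (PnBC.ψ_toPn g)
  obtain ⟨e₃, he₃⟩ := same_qpr (n := n) g t₀
  have h₁ : ∀ {M : (KRR.PY n T).Modules} (x : (Scheme.Modules.pullback (ω n T)).obj (G₀ E) ⟶ M),
      e₁.hom ≫ quotBC (ψ_ω g) x = J.map x := fun x => H23.GrassExist.θ_hom_quotBC _ x
  have h₂ : Quot15.pull g (𝟙 (ET E T)) = e₂.inv := by simp [e₂, H23.GrassExist.θ, J, a]
  refine ⟨e₃.inv ≫ J.map u, (hu.map J).of_iso e₁ e₂ e₃ (Iso.refl _) ?_ ?_ ?_ ?_⟩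
  · have hb : quotBC (ψ_ω g) (β E T) = β E T' ≫ Quot15.pull g (𝟙 _) := by
      have := quotBC_β g (𝟙 (ET E T))
      rwa [Category.comp_id] at this
    rw [← h₁ (β E T), hb, h₂, Category.assoc, Category.assoc, Iso.inv_hom_id, Category.comp_id]
  · rw [← h₁ (qpr E t₀), Category.assoc, he₃]
  · rw [Iso.refl_hom, Category.comp_id]
    exact (H23.GrassExist.θ_hom_quotBC _ t).symm
  · rw [Iso.refl_hom, Category.comp_id, Iso.hom_inv_id_assoc]

variable (hlf : FlatMod.IsFinLocFree E) (hE : KRegK0.RP n BZ.{u} (ET E BZ)) {Φ : Polynomial ℚ} (hG : Good E Φ)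
  [IsLocallyNoetherian T]

variable (t) in
/-- The quotient of the base module given by a family. -/
def adj₀ : (Scheme.Modules.pullback (toB T)).obj (G₀ E) ⟶ (Scheme.Modules.pushforward (KRR.pr n T)).obj L :=
  cmp E T ≫ (Scheme.Modules.pushforward (KRR.pr n T)).map t

theorem θ_β (T : Scheme.{u}) :
    (H23.GrassExist.θ (G₀ E) (KRR.pr n T) (pr_toB T)).hom ≫ β E T =
      (Scheme.Modules.pullback (KRR.pr n T)).map (cmp E T) ≫
        (Scheme.Modules.pullbackPushforwardAdjunction (KRR.pr n T)).counit.app (ET E T) := by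
  refine Eq.trans ?_ ((Scheme.Modules.pullbackPushforwardAdjunction (KRR.pr n T)).homEquiv_counit _ _ (cmp E T))
  exact (Equiv.symm_apply_apply _ _).symm

include hlf hE hG in
theorem epi_adj₀ (h : Fam Φ t) : Epi (adj₀ t) := by
  haveI := isIso_cmp hE T
  haveI := epi_push hlf hG h
  exact epi_comp _ _

include hlf hE hG in
/-- A family is cut out by its direct image. -/
theorem cart_adj₀ (h : Fam Φ t) : Cart (adj₀ t) t := by
  let J := Scheme.Modules.pullback (KRR.pr n T)
  let P := Scheme.Modules.pushforward (KRR.pr n T)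
  let adj := Scheme.Modules.pullbackPushforwardAdjunction (KRR.pr n T)
  let θ := H23.GrassExist.θ (G₀ E) (KRR.pr n T) (pr_toB T)
  haveI := h.epi
  haveI := epi_adj₀ hlf hE hG h
  haveI := epi_counit_ker hlf hG h
  haveI := isIso_cmp hE T
  have hq : θ.hom ≫ qpr E (adj₀ t) = J.map (adj₀ t) := H23.GrassExist.θ_hom_quotBC _ _
  have w : β E T ≫ t = qpr E (adj₀ t) ≫ adj.counit.app L := by
    rw [← cancel_epi θ.hom, ← Category.assoc, ← Category.assoc, hq, θ_β, Category.assoc, adj₀, Functor.map_comp,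
      Category.assoc]
    exact congrArg (J.map (cmp E T) ≫ ·) (adj.counit.naturality t).symm
  haveI : Epi (qpr E (adj₀ t)) := H23.GrassFlag.epi_quotBC _ _
  have hd : ∀ {Z : (KRR.PY n T).Modules} (f : ET E T ⟶ Z) (g : J.obj (P.obj L) ⟶ Z),
      β E T ≫ f = qpr E (adj₀ t) ≫ g → ∃ d : L ⟶ Z, t ≫ d = f := by
    intro Z f g hfg
    refine ⟨Abelian.epiDesc t f ?_, Abelian.comp_epiDesc _ _ _⟩
    rw [← cancel_epi (RegRes.eps (kernel t)), comp_zero]
    have hn : RegRes.eps (kernel t) ≫ kernel.ι t = J.map (P.map (kernel.ι t)) ≫ adj.counit.app (ET E T) :=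
      (adj.counit.naturality (kernel.ι t)).symm
    have h2 : J.map (cmp E T) ≫ adj.counit.app (ET E T) ≫ f = J.map (adj₀ t) ≫ g := by
      rw [← Category.assoc, ← θ_β, Category.assoc, hfg, ← Category.assoc]
      exact congrArg (· ≫ g) hq
    have h3 : adj.counit.app (ET E T) ≫ f = J.map (inv (cmp E T)) ≫ J.map (adj₀ t) ≫ g := by
      rw [← h2, ← Category.assoc, ← Functor.map_comp, IsIso.inv_hom_id, J.map_id, Category.id_comp]
    rw [← Category.assoc, hn, Category.assoc, h3, ← Functor.map_comp_assoc, ← Functor.map_comp_assoc, adj₀,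
      Category.assoc, IsIso.inv_hom_id_assoc, ← Functor.map_comp, kernel.condition, Functor.map_zero, Functor.map_zero, zero_comp]
  refine ⟨adj.counit.app L, ⟨⟨w⟩, ⟨PushoutCocone.IsColimit.mk _ (fun s => (hd s.inl s.inr s.condition).choose)
    (fun s => (hd s.inl s.inr s.condition).choose_spec) (fun s => ?_) fun s m hm _ => ?_⟩⟩⟩
  · rw [← cancel_epi (qpr E (adj₀ t)), ← Category.assoc, ← w, Category.assoc,
      (hd s.inl s.inr s.condition).choose_spec, s.condition]
  · rw [← cancel_epi t, hm]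
    exact (hd s.inl s.inr s.condition).choose_spec.symm

include hlf hE hG in
/-- The quotient of the base module is determined by the family. -/
theorem Cart.same_adj₀ (h : Cart t₀ t) (hf : Fam Φ t) (he : Epi t₀)
    (hrk : FlatMod.IsFinLocFreeOfRank (rk Φ) L₀) : Same t₀ (adj₀ t) := by
  obtain ⟨u, hu⟩ := h
  let adj := Scheme.Modules.pullbackPushforwardAdjunction (KRR.pr n T)
  let α : L₀ ⟶ (Scheme.Modules.pushforward (KRR.pr n T)).obj L := adj.homEquiv _ _ u
  have hα : t₀ ≫ α = adj₀ t := by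
    have hq : (H23.GrassExist.θ (G₀ E) (KRR.pr n T) (pr_toB T)).hom ≫ qpr E t₀ =
        (Scheme.Modules.pullback (KRR.pr n T)).map t₀ := H23.GrassExist.θ_hom_quotBC _ _
    rw [← Adjunction.homEquiv_naturality_left, ← hq, Category.assoc, ← hu.w, ← Category.assoc,
      Adjunction.homEquiv_naturality_right]
    rfl
  haveI := epi_adj₀ hlf hE hG hf
  haveI : Epi α := epi_of_epi_fac hα
  haveI : IsIso α := SeesawX.isIso_of_epi_rank hrk (rank_push_quot hlf hG hf) α
  exact ⟨asIso α, hα⟩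

end Groth.Agent.Quot15

end
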