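import Groth.Agent.FlatExtDvr.Main

/-!
# Flat extensions over a discrete valuation ring of quotients of a coherent module
-/

set_option linter.style.haveILetI false
set_option backward.isDefEq.respectTransparency false
set_option backward.isDefEq.respectTransparency.types false
set_option maxHeartbeats 1000000

universe u

open CategoryTheory CategoryTheory.Limits AlgebraicGeometry TopologicalSpace Opposite

noncomputable section

namespace Groth.Agent.Quot15

open Groth.Agent Groth.Agent.FlatExtDvr

/-- Quotients over the generic point extend to flat quotients. -/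
theorem exists_flat_extension {R : Type u} [CommRing R] [IsDomain R] [IsDiscreteValuationRing R] {X : Scheme.{u}}
    (f : X ⟶ Spec (CommRingCat.of R)) [IsLocallyNoetherian X] {Z : Scheme.{u}} {j : Z ⟶ X}
    {g : Z ⟶ Spec (CommRingCat.of (FractionRing R))}
    (sq : IsPullback j g f (Spec.map (CommRingCat.ofHom (algebraMap R (FractionRing R)))))
    (A : X.Modules) (hA : Coh.IsCoh A) (F : Z.Modules) (hF : Coh.IsQCoh F)
    (q : (Scheme.Modules.pullback j).obj A ⟶ F) (hq : Epi q) :
    ∃ (F' : X.Modules) (q' : A ⟶ F'), Coh.IsCoh F' ∧ Epi q' ∧ FlatMod.IsFlatOver f F' ∧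
      ∃ e : (Scheme.Modules.pullback j).obj F' ≅ F, (Scheme.Modules.pullback j).map q' ≫ e.hom = q := by
  haveI := hq
  obtain ⟨ϖ, hϖ⟩ := IsDiscreteValuationRing.exists_irreducible R
  haveI := RelPC17.TruncFree.isAway_fractionRing hϖ
  let b := Spec.map (CommRingCat.ofHom (algebraMap R (FractionRing R)))
  haveI : IsOpenImmersion b := IsOpenImmersion.of_isLocalization ϖ
  haveI : IsOpenImmersion j := MorphismProperty.of_isPullback sq.flip (inferInstanceAs (IsOpenImmersion b))
  haveI : IsAffineHom j := MorphismProperty.of_isPullback sq.flip (inferInstanceAs (IsAffineHom b))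
  let adj := Scheme.Modules.pullbackPushforwardAdjunction j
  haveI : (Scheme.Modules.pullback j).Additive := Functor.additive_of_preserves_binary_products _
  let qq : A ⟶ (Scheme.Modules.pushforward j).obj F := adj.homEquiv _ _ q
  let F' := Abelian.coimage qq
  let π := Abelian.coimage.π qq
  let ι := Abelian.factorThruCoimage qq
  have hfac : π ≫ ι = qq := Abelian.coimage.fac qq
  have hP : Coh.IsQCoh ((Scheme.Modules.pushforward j).obj F) := QCoh.isQCoh_pushforward j hF
  have hF' : Coh.IsCoh F' := QCoh.isCoh_cokernel (QCoh.isQCoh_kernel hA.1 hP qq) hA _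
  refine ⟨F', π, hF', inferInstance, fun x => ?_, ?_⟩
  · refine GenQuot5.isFlatOverAt_of_torsionFree (fun y => ?_) f F' x fun t s ht htg => ?_
    · haveI : IsPrincipalIdealRing (Localization.AtPrime y.asIdeal) :=
        ⟨fun I => by
          obtain ⟨a, ha⟩ := IsPrincipalIdealRing.principal (I.under (CommRingCat.of R))
          rw [← IsLocalization.map_comap y.asIdeal.primeCompl (Localization.AtPrime y.asIdeal) I]
          refine ⟨⟨algebraMap (CommRingCat.of R) _ a, ?_⟩⟩
          erw [ha, Ideal.map_span, Set.image_singleton]⟩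
      haveI : IsPrincipalIdealRing ((Spec (CommRingCat.of R)).presheaf.stalk y) :=
        IsPrincipalIdealRing.of_surjective (StructureSheaf.stalkIso (CommRingCat.of R) y).toRingEquiv.toRingHom
          (RingEquiv.surjective _)
      exact ⟨inferInstance, (Ring.krullDimLE_iff).mp inferInstance⟩
    let σ := (DerSch.stalkFunctor X x).map ι
    haveI : Mono σ := inferInstance
    refine (ModuleCat.mono_iff_injective σ).1 inferInstance ?_
    rw [map_zero]
    refine torsionFree_push f j b.opensRange (fun y hy => ?_) (fun z => ?_) F x t _ ht ?_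
    · obtain ⟨z, rfl⟩ := hy
      refine Eq.trans ?_ (genericPoint_eq_bot_of_affine (CommRingCat.of R)).symm
      rw [show b z = ⟨⊥, Ideal.isPrime_bot⟩ from PrimeSpectrum.ext (by
        show Ideal.comap (algebraMap R (FractionRing R)) z.asIdeal = ⊥
        rw [(Ideal.eq_bot_or_top z.asIdeal).resolve_right z.2.ne_top, ← RingHom.ker_eq_comap_bot]
        exact (RingHom.injective_iff_ker_eq_bot _).1 (IsFractionRing.injective R (FractionRing R)))]
      rfl
    · exact ⟨g z, (congr($(sq.w) z)).symm⟩
    · rw [← map_zero σ.hom, ← htg]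
      exact (map_smul σ.hom _ _).symm
  · let J := Scheme.Modules.pullback j
    let c := adj.counit.app F
    let ff := (Scheme.Modules.restrictAdjunction j).fullyFaithfulROfIsIsoCounit
    haveI : (Scheme.Modules.pushforward j).Full := ff.full
    haveI : (Scheme.Modules.pushforward j).Faithful := ff.faithful
    haveI : IsIso adj.counit := inferInstance
    haveI : Mono (J.map ι) := inferInstance
    have hcomp : J.map π ≫ J.map ι ≫ c = q := by
      rw [← Category.assoc, ← J.map_comp, hfac]
      exact (adj.homEquiv_counit _ _ qq).symm.trans (Equiv.symm_apply_apply _ _)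
    haveI : Epi (J.map ι ≫ c) := epi_of_epi_fac hcomp
    haveI : IsIso (J.map ι ≫ c) := isIso_of_mono_of_epi _
    exact ⟨asIso (J.map ι ≫ c), hcomp⟩

end Groth.Agent.Quot15

end
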