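import Groth.Agent.Quot15.Fam
import Groth.Agent.H28.PnBC
import Groth.Agent.H28.KRREpi
import Groth.Agent.H23.GrassFlag
import Groth.Agent.H23.ProjBd.BcBundle

/-!
# The direct image of the module on projective space over the integers
-/

set_option autoImplicit false
set_option linter.style.haveILetI false
set_option linter.unusedSectionVars false
set_option backward.isDefEq.respectTransparency false
set_option backward.isDefEq.respectTransparency.types false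
set_option maxHeartbeats 500000

universe u

open CategoryTheory CategoryTheory.Limits AlgebraicGeometry TopologicalSpace

noncomputable section

namespace Groth.Agent.Quot15

open Groth.Agent Groth.Agent.H28 Groth.Agent.H28.KRRTw Grass

/-- Base change in two steps. -/
theorem same_quotBC_quotBC {X G G' T : Scheme.{u}} {M : X.Modules} {π : G ⟶ X} {π' : G' ⟶ X} {a : G' ⟶ G}
    {b : T ⟶ G'} {g : T ⟶ G} {g' : T ⟶ X} (ha : a ≫ π = π') (hb : b ≫ a = g) (hg : g ≫ π = g')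
    (hbπ : b ≫ π' = g') {Q : G.Modules} (q : (Scheme.Modules.pullback π).obj M ⟶ Q) :
    Same (quotBC hg q) (quotBC hbπ (quotBC ha q)) := by
  haveI : IsIso (quotBC hb (𝟙 ((Scheme.Modules.pullback a).obj Q))) := H23.ProjBd.isIso_quotBC_id _
  refine ⟨asIso (quotBC hb (𝟙 ((Scheme.Modules.pullback a).obj Q))), ?_⟩
  rw [asIso_hom, H23.GrassFlag.quotBC_quotBC ha hb hg hbπ q (𝟙 _), Category.comp_id]

variable {n : ℕ} (E : (CohB1.ProjSpace n (ULift.{u} ℤ)).Modules)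

/-- The base. -/
abbrev BZ : Scheme.{u} := Spec (CommRingCat.of (ULift.{u} ℤ))

/-- The map to the base. -/
abbrev toB (T : Scheme.{u}) : T ⟶ BZ.{u} := specULiftZIsTerminal.from T

/-- The direct image over the base. -/
abbrev G₀ : (BZ.{u}).Modules := (Scheme.Modules.pushforward (KRR.pr n BZ.{u})).obj (ET E BZ)

/-- The map from `P^n_T` to the base. -/
abbrev ω (n : ℕ) (T : Scheme.{u}) : KRR.PY n T ⟶ BZ.{u} := PnBC.ψ (n := n) (toB T) ≫ KRR.pr n BZ.{u}

theorem pr_toB (T : Scheme.{u}) : KRR.pr n T ≫ toB T = ω n T := (PnBC.ψ_pr (n := n) (toB T)).symm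

theorem ψ_ω {T T' : Scheme.{u}} (g : T' ⟶ T) : PnBC.ψ (n := n) g ≫ ω n T = ω n T' :=
  specULiftZIsTerminal.hom_ext _ _

theorem ψ_toB {T T' : Scheme.{u}} (g : T' ⟶ T) :
    PnBC.ψ (n := n) g ≫ PnBC.ψ (n := n) (toB T) = PnBC.ψ (n := n) (toB T') := by
  rw [ψ_comp, specULiftZIsTerminal.hom_ext (g ≫ toB T) (toB T')]

/-- The comparison of inverse images. -/
abbrev θT (T : Scheme.{u}) : (Scheme.Modules.pullback (PnBC.ψ (n := n) (toB T))).obj (ET E BZ) ≅ ET E T :=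
  H23.GrassExist.θ E (PnBC.ψ (n := n) (toB T)) (PnBC.ψ_toPn (toB T))

/-- The evaluation map. -/
def β (T : Scheme.{u}) : (Scheme.Modules.pullback (ω n T)).obj (G₀ E) ⟶ ET E T :=
  quotBC (rfl : PnBC.ψ (n := n) (toB T) ≫ KRR.pr n BZ = ω n T) (RegRes.eps (ET E BZ)) ≫ (θT E T).hom

/-- The inverse image of a map out of the base module along the projection. -/
abbrev qpr {T : Scheme.{u}} {L₀ : T.Modules} (t₀ : (Scheme.Modules.pullback (toB T)).obj (G₀ E) ⟶ L₀) :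
    (Scheme.Modules.pullback (ω n T)).obj (G₀ E) ⟶ (Scheme.Modules.pullback (KRR.pr n T)).obj L₀ :=
  quotBC (pr_toB T) t₀

variable {E}

theorem quotBC_β {T T' : Scheme.{u}} (g : T' ⟶ T) {L : (KRR.PY n T).Modules} (t : ET E T ⟶ L) :
    quotBC (ψ_ω g) (β E T ≫ t) = β E T' ≫ pull g t := by
  have h1 := H23.GrassFlag.quotBC_quotBC (rfl : PnBC.ψ (n := n) (toB T) ≫ KRR.pr n BZ = ω n T) (ψ_toB g)
    (rfl : PnBC.ψ (n := n) (toB T') ≫ KRR.pr n BZ = ω n T') (ψ_ω g) (RegRes.eps (ET E BZ)) ((θT E T).hom ≫ t)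
  have h2 := H23.GrassFlag.quotBC_quotBC (PnBC.ψ_toPn (n := n) (toB T)) (ψ_toB g) (PnBC.ψ_toPn (n := n) (toB T'))
    (PnBC.ψ_toPn g) (𝟙 (ET E BZ)) ((θT E T).hom ≫ t)
  have hθ : ∀ S : Scheme.{u}, quotBC (PnBC.ψ_toPn (n := n) (toB S)) (𝟙 (ET E BZ)) = (θT E S).inv := fun S => by
    simp [θT, H23.GrassExist.θ]
  rw [hθ T', hθ T, Iso.inv_hom_id_assoc] at h2
  rw [β, Category.assoc, ← h1, β, Category.assoc]
  exact congrArg (quotBC (rfl : PnBC.ψ (n := n) (toB T') ≫ KRR.pr n BZ = ω n T') (RegRes.eps (ET E BZ)) ≫ ·)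
    ((Iso.inv_comp_eq _).1 h2)

theorem epi_β (hE : KRR.IsRegSheaf n BZ.{u} (ET E BZ)) (hq : Coh.IsQCoh (ET E BZ.{u})) (T : Scheme.{u}) :
    Epi (β E T) := by
  haveI := KRREpi.epi_counit _ hq hE
  haveI : Epi (quotBC (rfl : PnBC.ψ (n := n) (toB T) ≫ KRR.pr n BZ = ω n T) (RegRes.eps (ET E BZ))) :=
    H23.GrassFlag.epi_quotBC _ _
  exact epi_comp _ _

variable (E) in
/-- The comparison with the direct image. -/
def cmp (T : Scheme.{u}) :
    (Scheme.Modules.pullback (toB T)).obj (G₀ E) ⟶ (Scheme.Modules.pushforward (KRR.pr n T)).obj (ET E T) :=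
  (Scheme.Modules.pullbackPushforwardAdjunction (KRR.pr n T)).homEquiv _ _
    ((H23.GrassExist.θ (G₀ E) (KRR.pr n T) (pr_toB T)).hom ≫ β E T)

theorem qcoh_G₀ (hE : KRegK0.RP n BZ.{u} (ET E BZ)) : FlatMod.IsFinLocFree (G₀ E) :=
  GenPush.isFinLocFree_push hE

theorem isIso_cmp (hE : KRegK0.RP n BZ.{u} (ET E BZ)) (T : Scheme.{u}) : IsIso (cmp E T) := by
  haveI := PnBC.isIso_push_eps (toB T) hE
  haveI := PnH0.isIso_unit (n := n) ((Scheme.Modules.pullback (toB T)).obj (G₀ E))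
    (QCoh.isQCoh_of_isFinLocFree (KFlatLib.isFinLocFree_pullback (toB T) (qcoh_G₀ hE)))
  simp only [cmp, β, Adjunction.homEquiv_unit, quotBC, Functor.map_comp]
  infer_instance

/-- Base change of the evaluation map. -/
theorem same_qpr {T T' : Scheme.{u}} (g : T' ⟶ T) {L₀ : T.Modules}
    (t₀ : (Scheme.Modules.pullback (toB T)).obj (G₀ E) ⟶ L₀) :
    Same (quotBC (ψ_ω g) (qpr E t₀))
      (qpr E (quotBC (specULiftZIsTerminal.hom_ext (g ≫ toB T) (toB T')) t₀)) := by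
  have hg : (KRR.pr n T' ≫ g) ≫ toB T = ω n T' := specULiftZIsTerminal.hom_ext _ _
  exact (same_quotBC_quotBC (pr_toB (n := n) T) (PnBC.ψ_pr g) hg (ψ_ω g) t₀).symm.trans
    (same_quotBC_quotBC (specULiftZIsTerminal.hom_ext (g ≫ toB T) (toB T')) rfl hg (pr_toB (n := n) T') t₀)

end Groth.Agent.Quot15

end
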