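import Groth.Agent.H23.GrassExist.Plucker
import Groth.Agent.H23.GrassExist.Exist
import Groth.Agent.H28.PBFree
import Groth.Agent.H28.ExtSh
import Groth.Agent.QCoh.LocFree
import Groth.Agent.QCoh.Stalk
import Groth.Agent.KFlatLib.Perfect.LocFree
import Groth.Agent.Quot15.Push

/-!
# Grassmannians over the integers are projective
-/

set_option autoImplicit false
set_option linter.style.haveILetI false
set_option linter.unusedSectionVars false
set_option backward.isDefEq.respectTransparency false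
set_option backward.isDefEq.respectTransparency.types false
set_option maxHeartbeats 500000

universe u

open CategoryTheory CategoryTheory.Limits AlgebraicGeometry TopologicalSpace

noncomputable section

namespace Groth.Agent.Quot15

open Groth.Agent

open Opposite in
theorem isExtPow_of_iso_right {X : Scheme.{u}} {E L L' : X.Modules} {p : ℕ} (e : L ≅ L')
    (hL : ExtPow.IsExtPow p E L) : ExtPow.IsExtPow p E L' := by
  obtain ⟨φ, hφ⟩ := hL
  let e' : ∀ U : X.Opens, Γ(L', U) ≃ₗ[Γ(X, U)] Γ(L, U) := fun U =>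
    { toFun := e.inv.app U
      invFun := e.hom.app U
      left_inv := fun x => congr($(congrArg (fun k => Scheme.Modules.Hom.app k U) e.inv_hom_id) x)
      right_inv := fun x => congr($(congrArg (fun k => Scheme.Modules.Hom.app k U) e.hom_inv_id) x)
      map_add' := map_add _
      map_smul' := fun r x => Scheme.Modules.Hom.app_smul e.inv r x }
  refine ⟨fun U => (e' U.1).trans (φ U), fun U V h v => ?_⟩
  show L'.val.map (homOfLE h).op (e.hom.app U.1 ((φ U).symm _)) = e.hom.app V.1 ((φ V).symm _)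
  rw [← hφ U V h v]
  exact (AModX.app_res e.hom h _).symm

/-- A bundle on the spectrum of a principal ideal domain is free. -/
theorem exists_free_of_pid {R : Type u} [CommRing R] [IsDomain R] [IsPrincipalIdealRing R]
    {M : (Spec (CommRingCat.of R)).Modules} (hM : FlatMod.IsFinLocFree M) :
    ∃ N : ℕ, Nonempty (M ≅ FlatMod.freeMod (Spec (CommRingCat.of R)) N) := by
  let X := Spec (CommRingCat.of R)
  let A := Γ(X, ⊤)
  let e : A ≃+* R := (Scheme.ΓSpecIso (CommRingCat.of R)).commRingCatIsoToRingEquiv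
  haveI : IsDomain A := MulEquiv.isDomain R e.toMulEquiv
  haveI : IsPrincipalIdealRing A := IsPrincipalIdealRing.of_surjective e.symm.toRingHom e.symm.surjective
  have hq := QCoh.isQCoh_of_isFinLocFree hM
  have hV : IsAffineOpen (⊤ : X.Opens) := isAffineOpen_top X
  haveI : Module.Finite A Γ(M, ⊤) := QCoh.finite_of_isFT hq (QCoh.isFT_of_isFP (QCoh.isFP_of_isFinLocFree hM)) hV
  haveI : Module.Flat A Γ(M, ⊤) :=
    (QCoh.flat_sections_iff hq hV).2 fun x _ => KFlatLib.isFlat_of_isFinLocFree hM x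
  haveI : Module.Free A Γ(M, ⊤) := inferInstance
  let b := Module.Free.chooseBasis A Γ(M, ⊤)
  obtain ⟨e₁⟩ := QCoh.exists_free_restrict hq hV
    (b.reindex ((Fintype.equivFin (Module.Free.ChooseBasisIndex A Γ(M, ⊤))).trans Equiv.ulift.symm)).repr
  haveI : IsIso (⊤ : X.Opens).ι := X.topIso.isIso_hom
  exact ⟨_, ⟨((Scheme.Modules.restrictFunctorId).app M).symm ≪≫
    (Scheme.Modules.restrictFunctorCongr (IsIso.inv_hom_id (⊤ : X.Opens).ι).symm).app M ≪≫
    (QCoh.restrictRestrict M _ _).symm ≪≫ (Scheme.Modules.restrictFunctor (inv (⊤ : X.Opens).ι)).mapIso e₁ ≪≫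
    QCoh.freeModRestrict _ _⟩⟩

/-- A quotient of a free module has at most its rank. -/
theorem rank_le {X : Scheme.{u}} [Nonempty X] {M L : X.Modules} {N r : ℕ} (e : M ≅ FlatMod.freeMod X N)
    (hL : FlatMod.IsFinLocFreeOfRank r L) (q : M ⟶ L) [Epi q] : r ≤ N := by
  obtain ⟨x⟩ := ‹Nonempty X›
  obtain ⟨U, hxU, ⟨eU⟩⟩ := hL x
  obtain ⟨V, hV, hxV, hVU⟩ := exists_isAffineOpen_mem_and_subset hxU
  haveI : Nonempty V := ⟨⟨x, hxV⟩⟩
  obtain ⟨l₁⟩ := QCoh.free_sections hV (le_top : V ≤ ⊤)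
    ((Scheme.Modules.restrictFunctor (⊤ : X.Opens).ι).mapIso e ≪≫ QCoh.freeModRestrict _ N)
  obtain ⟨l₂⟩ := QCoh.free_sections hV hVU eU
  have hMq : Coh.IsQCoh M := (QCoh.isQCoh_iff_iso e).2 (QCoh.isQCoh_of_isFinLocFree (KFlatLib.isFinLocFree_freeMod N))
  have hLq : Coh.IsQCoh L := QCoh.isQCoh_of_isFinLocFree fun y => (hL y).elim fun U h => ⟨U, r, h⟩
  have hs : Function.Surjective (QCoh.appLin q V) := QCoh.app_surjective_of_epi hMq hLq q hV
  let g := (l₂.toLinearMap ∘ₗ QCoh.appLin q V) ∘ₗ l₁.symm.toLinearMap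
  have hg : Function.Surjective g := (l₂.surjective.comp hs).comp l₁.symm.surjective
  have := LinearMap.finrank_le_finrank_of_surjective hg
  simpa using this

theorem isNoetherianRing_Zu : IsNoetherianRing (ULift.{u} ℤ) :=
  isNoetherianRing_of_ringEquiv ℤ ULift.ringEquiv.symm

/-- Grassmannians of bundles over the integers are projective. -/
theorem exists_grass_proj {V : (BZ.{u}).Modules} (hV : FlatMod.IsFinLocFree V) (r : ℕ) :
    ∃ (G : Scheme.{u}) (π : G ⟶ BZ.{u}) (Q : G.Modules) (q : (Scheme.Modules.pullback π).obj V ⟶ Q) (M : ℕ)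
      (c : G ⟶ CohB1.ProjSpaceOver M BZ.{u}), Grass.IsGrass π V r Q q ∧ IsClosedImmersion c := by
  haveI : IsDomain (ULift.{u} ℤ) := MulEquiv.isDomain ℤ ULift.ringEquiv.toMulEquiv
  haveI : IsPrincipalIdealRing (ULift.{u} ℤ) :=
    IsPrincipalIdealRing.of_surjective (ULift.ringEquiv (R := ℤ)).symm.toRingHom ULift.ringEquiv.symm.surjective
  obtain ⟨G, π, Q, q, hG⟩ := H23.GrassExist.exists_isGrass V (QCoh.isQCoh_of_isFinLocFree hV) r
  obtain ⟨N, ⟨e⟩⟩ := exists_free_of_pid hV
  by_cases hr : r ≤ N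
  · have hVr : FlatMod.IsFinLocFreeOfRank N V := fun x =>
      ⟨⊤, trivial, ⟨(Scheme.Modules.restrictFunctor _).mapIso e ≪≫ QCoh.freeModRestrict _ N⟩⟩
    obtain ⟨M, ⟨eL⟩⟩ := exists_free_of_pid (H28.ExtSh.isFinLocFree_L r hV)
    cases M with
    | zero =>
      haveI : IsEmpty (BZ.{u} : Scheme.{u}) := by
        obtain ⟨M', hM'⟩ := H23.GrassExist.Pl.exists_rank_L hVr hr (Iso.refl _)
        refine ⟨fun x => ?_⟩
        haveI : Nonempty (BZ.{u} : Scheme.{u}) := ⟨x⟩
        haveI : Epi (𝟙 (H28.ExtBase.L V r)) := inferInstance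
        exact absurd (rank_le eL hM' (𝟙 _)) (by omega)
      obtain ⟨x⟩ : Nonempty (BZ.{u} : Scheme.{u}) := inferInstanceAs (Nonempty (PrimeSpectrum (ULift.{u} ℤ)))
      exact IsEmpty.elim inferInstance x
    | succ M =>
      obtain ⟨u₀, hu₀⟩ := H28.PBFree.exists_isProjBundle M BZ.{u}
      obtain ⟨c, hc, -⟩ := H23.GrassExist.Pl.exists_closedImmersion (L := FlatMod.freeMod BZ.{u} (M + 1)) hVr hr hG eL
        (isExtPow_of_iso_right eL (H28.ExtSh.isExtPow_L r hV)) hu₀
      exact ⟨G, π, Q, q, M, c, hG, hc⟩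
  · haveI : IsEmpty G := by
      refine ⟨fun z => hr ?_⟩
      haveI : Nonempty G := ⟨z⟩
      haveI := hG.epi
      exact rank_le ((Scheme.Modules.pullback π).mapIso e ≪≫ KFlatLib.pullFreeIso π N) hG.rank q
    let x : CohB1.ProjSpaceOver 0 BZ.{u} ⟶ CohB1.ProjSpaceOver 0 BZ.{u} := 𝟙 _
    refine ⟨G, π, Q, q, 0, isInitialOfIsEmpty.to _, hG, ?_⟩
    exact IsClosedImmersion.of_isPreimmersion _ (by rw [Set.range_eq_empty]; exact isClosed_empty)

end Groth.Agent.Quot15

end
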