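import Groth.Agent.Quot15.Stratum
import Groth.Agent.Quot15.Plucker
import Groth.Agent.Quot15.DvrExt
import Groth.Agent.UnivOpen.Criterion

/-!
# The Quot scheme of a regular module is projective over the integers
-/

set_option autoImplicit false
set_option linter.style.haveILetI false
set_option linter.unusedSectionVars false
set_option backward.isDefEq.respectTransparency false
set_option backward.isDefEq.respectTransparency.types false
set_option maxHeartbeats 500000

universe u

open CategoryTheory CategoryTheory.Limits AlgebraicGeometry TopologicalSpace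

noncomputable section

namespace Groth.Agent.Quot15

open Groth.Agent Groth.Agent.H28 Groth.Agent.H28.KRRTw Grass

variable {n : ℕ} {E : (CohB1.ProjSpace n (ULift.{u} ℤ)).Modules}

theorem hilIs_of_point {T : Scheme.{u}} [IsLocallyNoetherian T] [PreconnectedSpace T] {L : (KRR.PY n T).Modules}
    (hL : Coh.IsCoh L) (hfl : FlatMod.IsFlatOver (KRR.pr n T) L) {Φ : Polynomial ℚ} (η : T)
    (h : ∀ m : ℤ, (chi T L η m : ℚ) = Φ.eval (m : ℚ)) : HilIs Φ L := by
  have hC : FlatG.FlatC (KRR.pr n T) L (𝟙 T) :=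
    (FlatG.flatC_iff_isPullback hL.1 (IsPullback.of_horiz_isIso (fst := 𝟙 (KRR.PY n T)) (g := 𝟙 T)
      ⟨by rw [Category.id_comp, Category.comp_id]⟩)).1
      (LimModLib.isFlatOver_of_iso _ ((Scheme.Modules.pullbackId _).app L).symm hfl)
  have hlc : IsLocallyConstant fun y => FlatG.hilPn hL y := by
    have := FlatG.isLocallyConstant_hil hL.1 (iSup_affineOpens_eq_top T)
      (fun V : T.affineOpens => FlatG.localStrata_pn hL V.2) (𝟙 T) hC
    exact this
  intro y m
  rw [chi_eq_hilPn hL, hlc.apply_eq_of_preconnectedSpace y η, ← chi_eq_hilPn hL, h m]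

theorem same_of_map_eq {K S : Scheme.{u}} (b : K ⟶ S) {LA : (KRR.PY n S).Modules} (tA : ET E S ⟶ LA)
    {L : (KRR.PY n K).Modules} {t : ET E K ⟶ L} (eA : (Scheme.Modules.pullback (PnBC.ψ (n := n) b)).obj LA ≅ L)
    (heA : (Scheme.Modules.pullback (PnBC.ψ (n := n) b)).map tA ≫ eA.hom =
      (H23.GrassExist.θ E (PnBC.ψ (n := n) b) (PnBC.ψ_toPn b)).hom ≫ t) : Same (pull b tA) t :=
  ⟨eA, by
    rw [← cancel_epi (H23.GrassExist.θ E (PnBC.ψ (n := n) b) (PnBC.ψ_toPn b)).hom, ← Category.assoc,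
      H23.GrassExist.θ_hom_quotBC, heA]⟩

theorem fam_of_generic {K S : Scheme.{u}} [Nonempty K] [IsLocallyNoetherian S] [PreconnectedSpace S]
    {LA : (KRR.PY n S).Modules} {tA : ET E S ⟶ LA} (hepi : Epi tA) (hLA : Coh.IsCoh LA)
    (hfl : FlatMod.IsFlatOver (KRR.pr n S) LA) (b : K ⟶ S) {L : (KRR.PY n K).Modules} {t : ET E K ⟶ L}
    {Φ : Polynomial ℚ} (hs : Same (pull b tA) t) (ht : Fam Φ t) : Fam Φ tA := by
  refine ⟨hepi, hLA, hfl, ?_⟩
  obtain ⟨z⟩ := ‹Nonempty K›
  refine hilIs_of_point hLA hfl (b z) fun m => ?_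
  obtain ⟨e, -⟩ := hs
  rw [← chi_bc hLA.1 b z m, chi_iso e]
  exact ht.hil z m

variable (hlf : FlatMod.IsFinLocFree E) (hE : KRegK0.RP n BZ.{u} (ET E BZ)) {Φ : Polynomial ℚ} (hG : Good E Φ)

theorem b_ne_closedPoint {A : Type u} [CommRing A] [IsDomain A] [IsDiscreteValuationRing A]
    (z : Spec (CommRingCat.of (FractionRing A))) :
    Spec.map (CommRingCat.ofHom (algebraMap A (FractionRing A))) z ≠ IsLocalRing.closedPoint A := fun hz => by
  have hbot : (Spec.map (CommRingCat.ofHom (algebraMap A (FractionRing A))) z).asIdeal = ⊥ := by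
    show Ideal.comap (algebraMap A (FractionRing A)) z.asIdeal = ⊥
    rw [(Ideal.eq_bot_or_top z.asIdeal).resolve_right z.2.ne_top, ← RingHom.ker_eq_comap_bot]
    exact (RingHom.injective_iff_ker_eq_bot _).1 (IsFractionRing.injective A (FractionRing A))
  rw [hz] at hbot
  exact IsDiscreteValuationRing.not_a_field A hbot

theorem isDominant_frac (A : Type u) [CommRing A] [IsDomain A] :
    IsDominant (Spec.map (CommRingCat.ofHom (algebraMap A (FractionRing A)))) := by
  refine ⟨?_⟩
  rw [DenseRange, dense_iff_closure_eq, Set.eq_univ_iff_forall]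
  intro w
  let z : Spec (CommRingCat.of (FractionRing A)) := (⟨⊥, Ideal.isPrime_bot⟩ : PrimeSpectrum _)
  let y : PrimeSpectrum A := Spec.map (CommRingCat.ofHom (algebraMap A (FractionRing A))) z
  have hz : y.asIdeal = ⊥ := by
    show Ideal.comap (algebraMap A (FractionRing A)) ⊥ = ⊥
    rw [← RingHom.ker_eq_comap_bot]
    exact (RingHom.injective_iff_ker_eq_bot _).1 (IsFractionRing.injective A (FractionRing A))
  have hzw : y ⤳ w := (PrimeSpectrum.le_iff_specializes y w).1 (show y.asIdeal ≤ _ from hz.le.trans bot_le)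
  exact hzw.mem_closed isClosed_closure (subset_closure ⟨z, rfl⟩)

include hlf in
/-- A family over the generic point of a trait extends. -/
theorem exists_fam_ext {A : Type u} [CommRing A] [IsDomain A] [IsDiscreteValuationRing A]
    (b : Spec (CommRingCat.of (FractionRing A)) ⟶ Spec (CommRingCat.of A))
    (hb : b = Spec.map (CommRingCat.ofHom (algebraMap A (FractionRing A))))
    {L : (KRR.PY n (Spec (CommRingCat.of (FractionRing A)))).Modules}
    {t : ET E (Spec (CommRingCat.of (FractionRing A))) ⟶ L} (ht : Fam Φ t) :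
    ∃ (LA : (KRR.PY n (Spec (CommRingCat.of A))).Modules) (tA : ET E (Spec (CommRingCat.of A)) ⟶ LA),
      Fam Φ tA ∧ Same (pull b tA) t := by
  haveI := isLocallyNoetherian_PY (n := n) (Spec (CommRingCat.of A))
  haveI := ht.epi
  have sq : IsPullback (PnBC.ψ (n := n) b) (KRR.pr n _) (KRR.pr n _)
      (Spec.map (CommRingCat.ofHom (algebraMap A (FractionRing A)))) := by
    rw [← hb]
    exact SeesawX.PnFibre.isPullback_ψ (n := n) b
  obtain ⟨LA, tA, hLA, hepiA, hflA, eA, heA⟩ := exists_flat_extension (KRR.pr n _) sq (ET E _)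
    (KZ.LFRes.flf_isCoh (isFinLocFree_ET hlf _)) _ ht.coh.1
    ((H23.GrassExist.θ E (PnBC.ψ (n := n) b) (PnBC.ψ_toPn b)).hom ≫ t) inferInstance
  have hs := same_of_map_eq b tA eA heA
  haveI : Nonempty (Spec (CommRingCat.of (FractionRing A))) :=
    inferInstanceAs (Nonempty (PrimeSpectrum (FractionRing A)))
  exact ⟨LA, tA, fam_of_generic hepiA hLA hflA b hs ht, hs⟩

include hlf hE hG in
theorem exists_core : ∃ (Q : Scheme.{u}) (U : (KRR.PY n Q).Modules) (tQ : ET E Q ⟶ U) (M : ℕ)
    (c : Q ⟶ CohB1.ProjSpaceOver M BZ.{u}), Rep E Φ Q tQ ∧ IsClosedImmersion c := by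
  obtain ⟨G, π, Qu, qu, M, c, hGr, hc⟩ := exists_grass_proj (qcoh_G₀ hE) (rk Φ)
  haveI := isNoetherianRing_Zu.{u}
  haveI : IsProper (CohB1.ProjSpaceOver.toBase M BZ.{u}) := PnFlat.isProper_pr M _
  haveI := hc
  haveI : IsProper (c ≫ CohB1.ProjSpaceOver.toBase M BZ.{u}) := inferInstance
  let p : G ⟶ BZ.{u} := c ≫ CohB1.ProjSpaceOver.toBase M BZ.{u}
  haveI : IsProper p := inferInstanceAs (IsProper (c ≫ CohB1.ProjSpaceOver.toBase M BZ.{u}))
  haveI : IsLocallyNoetherian G := LocallyOfFiniteType.isLocallyNoetherian p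
  haveI : CompactSpace G := QuasiCompact.compactSpace_of_compactSpace p
  haveI : IsNoetherian G := {}
  haveI : G.IsSeparated := ⟨by
    rw [show terminal.from G = p ≫ terminal.from _ from Subsingleton.elim _ _]
    infer_instance⟩
  obtain ⟨FG, τ, W, j, hFG, hj, hW, hfam, hlift, huniv, hpt⟩ := exists_stratum hlf hE hG hGr
  haveI := hj
  haveI := hW
  haveI : NoetherianSpace W := j.isEmbedding.isInducing.noetherianSpace
  haveI : QuasiCompact j := ⟨fun U _ _ => NoetherianSpace.isCompact _⟩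
  have hspec : SpecializingMap j := by
    intro x' s hs
    suffices h : s ∈ Set.range j by
      obtain ⟨x, rfl⟩ := h
      exact ⟨x, j.isEmbedding.isInducing.specializes_iff.1 hs, rfl⟩
    by_cases hne : s = j x'
    · exact ⟨x', hne.symm⟩
    obtain ⟨A, _, _, _, ν, hνc, hνg⟩ := UnivOpen.exists_dvr_lift hs hne
    let b := Spec.map (CommRingCat.ofHom (algebraMap A (FractionRing A)))
    have hK : Fam Φ (pull (b ≫ ν) τ) := hpt _ (b ≫ ν) fun z => by
      rw [Scheme.Hom.comp_apply, hνg _ (b_ne_closedPoint z)]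
      exact ⟨x', rfl⟩
    obtain ⟨LA, tA, hfA, hs⟩ := exists_fam_ext hlf b rfl hK
    obtain ⟨h, hh, -⟩ := huniv (Spec (CommRingCat.of A)) _ tA hfA
    obtain ⟨l, hl⟩ := hlift _ h (hfA.of_same hh.symm)
    obtain ⟨h₀, -, hu₀⟩ := huniv _ _ _ hK
    have heq : b ≫ h = b ≫ ν := (hu₀ (b ≫ h) ((same_pull_pull τ h b).trans ((hh.pull b).trans hs))).trans
      (hu₀ (b ≫ ν) (Same.refl _)).symm
    haveI := isDominant_frac A
    have hνh : ν = h := ext_of_isDominant b heq.symm
    refine ⟨l (IsLocalRing.closedPoint A), ?_⟩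
    rw [← Scheme.Hom.comp_apply, hl, ← hνh, hνc]
  have hcl : IsClosed (Set.range j) := by
    have := (isClosedMap_iff_specializingMap j).2 hspec Set.univ isClosed_univ
    rwa [Set.image_univ] at this
  haveI : IsClosedImmersion j := IsClosedImmersion.of_isPreimmersion j hcl
  refine ⟨W, _, pull j τ, M, j ≫ c, ⟨hW, hfam, fun T _ L t ht => ?_⟩, inferInstance⟩
  obtain ⟨h, hh, hu⟩ := huniv T L t ht
  obtain ⟨l, rfl⟩ := hlift T h (ht.of_same hh.symm)
  refine ⟨l, (same_pull_pull τ j l).symm.trans hh, fun g hg => ?_⟩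
  rw [← cancel_mono j]
  exact hu _ ((same_pull_pull τ j g).trans hg)

end Groth.Agent.Quot15

end
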