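import Groth.Agent.FlatG.Rel
import Groth.Agent.H28.PnFlat
import Groth.Agent.H23.GrassExist.Basic
import Groth.Agent.SeesawX.PnFibre
import Groth.Prelude.Def_FGA

/-!
# Families of quotients on projective space with given Hilbert polynomial
-/

set_option autoImplicit false
set_option linter.style.haveILetI false
set_option linter.unusedSectionVars false
set_option backward.isDefEq.respectTransparency false
set_option backward.isDefEq.respectTransparency.types false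

universe u

open CategoryTheory CategoryTheory.Limits AlgebraicGeometry TopologicalSpace

noncomputable section

namespace Groth.Agent.Quot15

open Groth.Agent Groth.Agent.H28 Groth.Agent.H28.KRRTw

variable {n : ℕ} (E : (CohB1.ProjSpace n (ULift.{u} ℤ)).Modules)

/-- The module on `P^n_T`. -/
abbrev ET (T : Scheme.{u}) : (KRR.PY n T).Modules := (Scheme.Modules.pullback (toPn n T)).obj E

variable {E}

/-- The inverse image of a quotient. -/
abbrev pull {T T' : Scheme.{u}} (g : T' ⟶ T) {L : (KRR.PY n T).Modules} (t : ET E T ⟶ L) :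
    ET E T' ⟶ (Scheme.Modules.pullback (PnBC.ψ (n := n) g)).obj L :=
  Grass.quotBC (PnBC.ψ_toPn g) t

/-- Equality of quotients. -/
def Same {X : Scheme.{u}} {M L L' : X.Modules} (t : M ⟶ L) (t' : M ⟶ L') : Prop :=
  ∃ e : L ≅ L', t ≫ e.hom = t'

/-- The Euler characteristic of a twist on a fibre. -/
def chi (T : Scheme.{u}) (L : (KRR.PY n T).Modules) (y : T) (m : ℤ) : ℤ :=
  @Curv2.euler (T.residueField y) _ ((KRR.pr n T).fiber y) ⟨(KRR.pr n T).fiberToSpecResidueField y⟩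
    ((Scheme.Modules.pullback ((KRR.pr n T).fiberι y)).obj (KRR.twF n T m L))

/-- The Hilbert polynomial is `Φ` on every fibre. -/
def HilIs (Φ : Polynomial ℚ) {T : Scheme.{u}} (L : (KRR.PY n T).Modules) : Prop :=
  ∀ (y : T) (m : ℤ), (chi T L y m : ℚ) = Φ.eval (m : ℚ)

/-- A family of quotients with Hilbert polynomial `Φ`. -/
structure Fam (Φ : Polynomial ℚ) {T : Scheme.{u}} {L : (KRR.PY n T).Modules} (t : ET E T ⟶ L) : Prop where
  epi : Epi t
  coh : Coh.IsCoh L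
  flat : FlatMod.IsFlatOver (KRR.pr n T) L
  hil : HilIs Φ L

variable (E) in
/-- A universal family. -/
def Rep (Φ : Polynomial ℚ) (Q : Scheme.{u}) {U : (KRR.PY n Q).Modules} (tQ : ET E Q ⟶ U) : Prop :=
  IsLocallyNoetherian Q ∧ Fam Φ tQ ∧ ∀ (T : Scheme.{u}) [IsLocallyNoetherian T] (L : (KRR.PY n T).Modules)
    (t : ET E T ⟶ L), Fam Φ t → ∃! g : T ⟶ Q, Same (pull g tQ) t

namespace Same

variable {X : Scheme.{u}} {M L L' L'' : X.Modules} {t : M ⟶ L} {t' : M ⟶ L'} {t'' : M ⟶ L''}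

theorem refl (t : M ⟶ L) : Same t t := ⟨Iso.refl L, Category.comp_id t⟩

theorem symm (h : Same t t') : Same t' t := by
  obtain ⟨e, he⟩ := h
  exact ⟨e.symm, by rw [← he, Category.assoc, Iso.symm_hom, e.hom_inv_id, Category.comp_id]⟩

theorem trans (h : Same t t') (h' : Same t' t'') : Same t t'' := by
  obtain ⟨e, he⟩ := h
  obtain ⟨e', he'⟩ := h'
  exact ⟨e ≪≫ e', by rw [Iso.trans_hom, ← Category.assoc, he, he']⟩

theorem epi (h : Same t t') [Epi t] : Epi t' := by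
  obtain ⟨e, rfl⟩ := h
  exact epi_comp _ _

/-- Quotient maps which agree up to an isomorphism agree after base change. -/
theorem quotBC {Y : Scheme.{u}} {N : Y.Modules} {g : X ⟶ Y} {Z : Scheme.{u}} {b : Z ⟶ X} {g' : Z ⟶ Y}
    (hb : b ≫ g = g') {L L' : X.Modules} {t : (Scheme.Modules.pullback g).obj N ⟶ L}
    {t' : (Scheme.Modules.pullback g).obj N ⟶ L'} (h : Same t t') :
    Same (Grass.quotBC hb t) (Grass.quotBC hb t') := by
  obtain ⟨e, he⟩ := h
  exact ⟨_, H23.GrassExist.quotBC_iso hb e he⟩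

end Same

theorem ψ_comp {T T' T'' : Scheme.{u}} (g : T' ⟶ T) (g' : T'' ⟶ T') :
    PnBC.ψ (n := n) g' ≫ PnBC.ψ (n := n) g = PnBC.ψ (n := n) (g' ≫ g) := by
  refine pullback.hom_ext ?_ ?_
  · rw [Category.assoc, PnBC.ψ_toPn, PnBC.ψ_toPn]
    exact (PnBC.ψ_toPn (n := n) (g' ≫ g)).symm
  · show (PnBC.ψ g' ≫ PnBC.ψ g) ≫ KRR.pr n T = PnBC.ψ (g' ≫ g) ≫ KRR.pr n T
    rw [Category.assoc, PnBC.ψ_pr, ← Category.assoc, PnBC.ψ_pr, PnBC.ψ_pr, Category.assoc]

theorem ψ_id (T : Scheme.{u}) : PnBC.ψ (n := n) (𝟙 T) = 𝟙 (KRR.PY n T) := by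
  refine pullback.hom_ext ?_ ?_
  · rw [Category.id_comp]
    exact PnBC.ψ_toPn (n := n) (𝟙 T)
  · show PnBC.ψ (n := n) (𝟙 T) ≫ KRR.pr n T = 𝟙 _ ≫ KRR.pr n T
    rw [PnBC.ψ_pr, Category.comp_id, Category.id_comp]

variable {T T' T'' : Scheme.{u}} {L L' : (KRR.PY n T).Modules} {t : ET E T ⟶ L} {t' : ET E T ⟶ L'}

theorem Same.pull (h : Same t t') (g : T' ⟶ T) : Same (pull g t) (pull g t') := Same.quotBC _ h

theorem same_pull_pull (t : ET E T ⟶ L) (g : T' ⟶ T) (g' : T'' ⟶ T') :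
    Same (pull (g' ≫ g) t) (pull g' (pull g t)) := by
  haveI : IsIso (Grass.quotBC (ψ_comp (n := n) g g')
      (𝟙 ((Scheme.Modules.pullback (PnBC.ψ (n := n) g)).obj L))) := H23.ProjBd.isIso_quotBC_id _
  refine ⟨asIso (Grass.quotBC (ψ_comp (n := n) g g')
    (𝟙 ((Scheme.Modules.pullback (PnBC.ψ (n := n) g)).obj L))), ?_⟩
  rw [asIso_hom, H23.GrassFlag.quotBC_quotBC (PnBC.ψ_toPn g) (ψ_comp (n := n) g g') (PnBC.ψ_toPn (g' ≫ g))
    (PnBC.ψ_toPn g') t (𝟙 _), Category.comp_id]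

theorem same_pull_congr (t : ET E T ⟶ L) {g g' : T' ⟶ T} (h : g = g') : Same (pull g t) (pull g' t) := by
  subst h
  exact Same.refl _

theorem same_pull_id (t : ET E T ⟶ L) : Same (pull (𝟙 T) t) t := by
  refine ⟨(Scheme.Modules.pullbackCongr (ψ_id (n := n) T)).app L ≪≫ (Scheme.Modules.pullbackId _).app L, ?_⟩
  have key : ∀ (a : KRR.PY n T ⟶ KRR.PY n T) (ha : a = 𝟙 _) (h : a ≫ toPn n T = toPn n T),
      Grass.quotBC h t ≫ (Scheme.Modules.pullbackCongr ha).hom.app L ≫ (Scheme.Modules.pullbackId _).hom.app L = t := by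
    intro a ha h
    subst ha
    rw [show (Scheme.Modules.pullbackCongr (rfl : 𝟙 (KRR.PY n T) = _)).hom.app L = 𝟙 _ by
      simp [Scheme.Modules.pullbackCongr], Category.id_comp]
    exact H23.GrassExist.quotBC_id t
  exact key _ _ _

theorem isCoh_of_iso {X : Scheme.{u}} {N N' : X.Modules} (e : N ≅ N') (h : Coh.IsCoh N) : Coh.IsCoh N' := by
  refine QCoh.isCoh_iff.2 ⟨(QCoh.isQCoh_iff_iso e).1 h.1, fun U => ?_⟩
  haveI := QCoh.finite_sections h U.2
  exact Module.Finite.of_surjective (QCoh.appLin e.hom U.1)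
    ((ConcreteCategory.bijective_of_isIso (e.hom.app U.1)).2)

theorem chi_iso (e : L ≅ L') (y : T) (m : ℤ) : chi T L y m = chi T L' y m := by
  letI : ((KRR.pr n T).fiber y).Over (Spec (CommRingCat.of (T.residueField y))) :=
    ⟨(KRR.pr n T).fiberToSpecResidueField y⟩
  exact CurveCohLib.euler_congr (k := T.residueField y)
    ((Scheme.Modules.pullback ((KRR.pr n T).fiberι y)).mapIso ((Tw n T m).mapIso e))

theorem HilIs.of_iso {Φ : Polynomial ℚ} (e : L ≅ L') (h : HilIs Φ L) : HilIs Φ L' := fun y m => by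
  rw [← chi_iso e]; exact h y m

theorem isQCoh_twF {F : (KRR.PY n T).Modules} (hF : Coh.IsQCoh F) (m : ℤ) : Coh.IsQCoh (KRR.twF n T m F) :=
  KFlatLib.isQCoh_tensor (QCoh.isQCoh_of_isFinLocFree (PnFlat.lf_twistOver m)) hF

theorem chi_bc {F : (KRR.PY n T).Modules} (hF : Coh.IsQCoh F) (g : T' ⟶ T) (y : T') (m : ℤ) :
    chi T' ((Scheme.Modules.pullback (PnBC.ψ (n := n) g)).obj F) y m = chi T F (g y) m := by
  haveI := PnFlat.isProper_pr n T
  obtain ⟨e⟩ := PnBC.pullback_tw (n := n) g m F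
  letI : ((KRR.pr n T').fiber y).Over (Spec (CommRingCat.of (T'.residueField y))) :=
    ⟨(KRR.pr n T').fiberToSpecResidueField y⟩
  exact (CurveCohLib.euler_congr (k := T'.residueField y)
    ((Scheme.Modules.pullback ((KRR.pr n T').fiberι y)).mapIso e)).symm.trans
    (FlatG.euler_fibre_bc (KRR.pr n T) (SeesawX.PnFibre.isPullback_ψ g) y (KRR.twF n T m F) (isQCoh_twF hF m))

theorem Fam.of_same {Φ : Polynomial ℚ} (h : Fam Φ t) (hs : Same t t') : Fam Φ t' := by
  haveI := h.epi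
  refine ⟨hs.epi, ?_, ?_, ?_⟩
  all_goals obtain ⟨e, -⟩ := hs
  · exact isCoh_of_iso e h.coh
  · exact LimModLib.isFlatOver_of_iso _ e h.flat
  · exact h.hil.of_iso e

theorem isLocallyNoetherian_PY (T : Scheme.{u}) [IsLocallyNoetherian T] : IsLocallyNoetherian (KRR.PY n T) :=
  haveI := PnFlat.isProper_pr n T
  LocallyOfFiniteType.isLocallyNoetherian (KRR.pr n T)

theorem Fam.pull {Φ : Polynomial ℚ} (h : Fam Φ t) (g : T' ⟶ T) : Fam Φ (pull g t) where
  epi := by
    haveI := h.epi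
    exact H23.GrassFlag.epi_quotBC _ t
  coh := ZClosLib.isCoh_pullback _ h.coh
  flat := FlatBC5.isFlatOver_of_baseChange (SeesawX.PnFibre.isPullback_ψ g) h.coh.1 h.flat
  hil := fun y m => by rw [chi_bc h.coh.1 g y m]; exact h.hil (g y) m

end Groth.Agent.Quot15

end
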