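import Groth.Agent.Quot15.Fam
import Groth.Agent.FlatG.Pn
import Groth.Agent.CurveBC.Coh

/-!
# The strata of constant Hilbert polynomial
-/

set_option autoImplicit false
set_option linter.style.haveILetI false
set_option linter.unusedSectionVars false
set_option backward.isDefEq.respectTransparency false
set_option backward.isDefEq.respectTransparency.types false
set_option maxHeartbeats 500000

universe u

open CategoryTheory CategoryTheory.Limits AlgebraicGeometry TopologicalSpace

noncomputable section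

namespace Groth.Agent.Quot15

open Groth.Agent Groth.Agent.H28 Groth.Agent.H28.KRRTw

variable {n : ℕ}

theorem euler_of_isPullback {T : Scheme.{u}} (y : T) {Z : Scheme.{u}} {w : Z ⟶ KRR.PY n T}
    {v : Z ⟶ Spec (T.residueField y)} (h : IsPullback w v (KRR.pr n T) (T.fromSpecResidueField y))
    {M : (KRR.PY n T).Modules} (hM : Coh.IsQCoh M) :
    @Curv2.euler (T.residueField y) _ Z ⟨v⟩ ((Scheme.Modules.pullback w).obj M) =
      @Curv2.euler (T.residueField y) _ ((KRR.pr n T).fiber y) ⟨(KRR.pr n T).fiberToSpecResidueField y⟩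
        ((Scheme.Modules.pullback ((KRR.pr n T).fiberι y)).obj M) := by
  let k := T.residueField y
  let P := (KRR.pr n T).fiber y
  letI : Z.Over (Spec (CommRingCat.of k)) := ⟨v⟩
  letI : P.Over (Spec (CommRingCat.of k)) := ⟨(KRR.pr n T).fiberToSpecResidueField y⟩
  haveI hp : IsProper (P ↘ Spec (CommRingCat.of k)) :=
    MorphismProperty.pullback_snd (KRR.pr n T) (T.fromSpecResidueField y) (PnFlat.isProper_pr n T)
  haveI := CurveCohLib.isNoetherian_of_proper (k := k) (X := P)
  haveI : QuasiSeparatedSpace P := quasiSeparatedSpace_of_quasiSeparated (P ↘ Spec (CommRingCat.of k))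
  let g : Z ⟶ P := h.isoPullback.hom
  have hid : Spec.map (CommRingCat.ofHom (algebraMap k k)) = 𝟙 _ := by
    rw [show CommRingCat.ofHom (algebraMap k k) = 𝟙 _ from rfl, Spec.map_id]
  have hg : g ≫ (KRR.pr n T).fiberι y = w := h.isoPullback_hom_fst
  have hpb : IsPullback g (Z ↘ Spec (CommRingCat.of k)) (P ↘ Spec (CommRingCat.of k))
      (Spec.map (CommRingCat.ofHom (algebraMap k k))) := by
    rw [hid]
    exact IsPullback.of_horiz_isIso ⟨h.isoPullback_hom_snd.trans (Category.comp_id _).symm⟩
  exact (CurveCohLib.euler_congr (k := k) ((Scheme.Modules.pullbackComp g ((KRR.pr n T).fiberι y)).app M ≪≫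
      (Scheme.Modules.pullbackCongr hg).app M)).symm.trans
    (CurveBC.euler_eq k k g hpb _ (QCoh.isQCoh_pullback _ hM))

variable {T : Scheme.{u}} [IsLocallyNoetherian T] {L : (KRR.PY n T).Modules}

theorem chi_eq_hilPn (hL : Coh.IsCoh L) (y : T) (m : ℤ) :
    (chi T L y m : ℚ) = (FlatG.hilPn hL y).eval (m : ℚ) := by
  rw [← FlatG.hilPn_spec hL y m, chi, ← euler_of_isPullback y (FlatG.isPullback_fibw n T y) (isQCoh_twF hL.1 m)]
  obtain ⟨e⟩ := H23.PicMul.pull (FlatG.fibw n T y) (Twist.twistOver n T m) L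
  obtain ⟨e'⟩ := H23.PicMul.comm ((Scheme.Modules.pullback (FlatG.fibw n T y)).obj (Twist.twistOver n T m))
    ((Scheme.Modules.pullback (FlatG.fibw n T y)).obj L)
  exact congrArg Int.cast (CurveCohLib.euler_congr (k := T.residueField y) (e ≪≫ e'))

theorem hilIs_iff (hL : Coh.IsCoh L) (Φ : Polynomial ℚ) : HilIs Φ L ↔ ∀ y, FlatG.hilPn hL y = Φ := by
  refine ⟨fun h y => Polynomial.eq_of_infinite_eval_eq _ _ ?_, fun h y m => by rw [chi_eq_hilPn hL, h y]⟩
  refine (Set.infinite_range_of_injective (fun a b => Int.cast_injective (α := ℚ) (a₁ := a) (a₂ := b))).mono ?_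
  rintro _ ⟨m, rfl⟩
  exact (chi_eq_hilPn hL y m).symm.trans (h y m)

end Groth.Agent.Quot15

end
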