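import Groth.Agent.Quot15.Regular
import Groth.Agent.Quot15.Hil
import Groth.Agent.Quot15.Push
import Groth.Agent.H28.GenPsi
import Groth.Agent.Pic13Lib.QuotKernel
import Groth.Agent.SeesawX.PnFibre
import Groth.Agent.S10829

/-!
# High twists of quotients of free modules are regular
-/

set_option autoImplicit false
set_option linter.style.haveILetI false
set_option linter.unusedSectionVars false
set_option backward.isDefEq.respectTransparency false
set_option backward.isDefEq.respectTransparency.types false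
set_option maxHeartbeats 800000

universe u

open CategoryTheory CategoryTheory.Limits AlgebraicGeometry TopologicalSpace
open Groth.Agent.H23.PicMul

noncomputable section

namespace Groth.Agent.Quot15

open Groth.Agent Groth.Agent.H28 Groth.Agent.H28.KRRTw Groth.Agent.H28.KRRReg

/-- The twisted free module. -/
abbrev Ec (n p : ℕ) (c : ℤ) : (CohB1.ProjSpace n (ULift.{u} ℤ)).Modules :=
  (DCoh.tensorBi.obj (Twist.twistProjSpace n (ULift.{u} ℤ) c)).obj (FlatMod.freeMod _ p)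

variable {n : ℕ}

theorem exists_ET_iso (p : ℕ) (c : ℤ) (T : Scheme.{u}) :
    Nonempty (ET (Ec n p c) T ≅ KRR.twF n T c (FlatMod.freeMod (KRR.PY n T) p)) := by
  obtain ⟨e⟩ := H23.PicMul.pull (toPn n T) (Twist.twistProjSpace n (ULift.{u} ℤ) c)
    (FlatMod.freeMod (CohB1.ProjSpace n (ULift.{u} ℤ)) p)
  exact ⟨e ≪≫ (DCoh.tensorBi.obj (Twist.twistOver n T c)).mapIso (KFlatLib.pullFreeIso (toPn n T) p)⟩

theorem isInvertible_twistZ (c : ℤ) : PicF.IsInvertible (Twist.twistProjSpace n (ULift.{u} ℤ) c) :=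
  PnCoh.Finite.isInvertible_twist (crd n) crd_mem crd_cover c

theorem lf_Ec (p : ℕ) (c : ℤ) : FlatMod.IsFinLocFree (Ec.{u} n p c) :=
  KFlatLib.isFinLocFree_tensor (H23.PullPush.isFinLocFree_of_isInvertible (isInvertible_twistZ c))
    (KFlatLib.isFinLocFree_freeMod p)

theorem rp_free (T : Scheme.{u}) (p : ℕ) : KRegK0.RP n T (FlatMod.freeMod (KRR.PY n T) p) :=
  KRegK0.rp_of_iso (KFlatLib.pullFreeIso (KRR.pr n T) p)
    (GenPsi.rp_pullback (KFlatLib.isFinLocFree_freeMod p))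

theorem rp_ET (T : Scheme.{u}) (p c : ℕ) : KRegK0.RP n T (ET (Ec n p c) T) := by
  obtain ⟨e⟩ := exists_ET_iso (n := n) p (c : ℤ) T
  exact KRegK0.rp_of_iso e.symm (KRegK0.rp_M _ (rp_free T p) c)

/-- Comparison with the standard projective space, with all the twists. -/
theorem exists_iso_compat (n : ℕ) (k : Type u) [Field k] :
    ∃ a : CohB1.ProjSpace n k ≅ KRR.PY n (Spec (CommRingCat.of k)),
      a.hom ≫ KRR.pr n (Spec (CommRingCat.of k)) = CohB1.ProjSpace.toSpec n k ∧ ∀ d : ℤ,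
      Nonempty ((Scheme.Modules.pullback a.hom).obj (Twist.twistOver n (Spec (CommRingCat.of k)) d) ≅
        Twist.twistProjSpace n k d) := by
  obtain ⟨a, ha, ⟨τ⟩⟩ := SeesawX.PnSpec.exists_iso n k
  refine ⟨a.symm, by rw [Iso.symm_hom, Iso.inv_comp_eq]; exact ha.symm, fun d => cl_eq_iff.1 ?_⟩
  have h : (pullHom a.inv).comp (SeesawX.PnFibre.twistOverHom n (Spec (CommRingCat.of k))) =
      SeesawX.PnFibre.twistHom n k :=
    MonoidHom.ext_mint (cl_eq_iff.2 ⟨(Scheme.Modules.pullback a.inv).mapIso τ.symm ≪≫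
      (Scheme.Modules.pullbackComp a.inv a.hom).app _ ≪≫ (Scheme.Modules.pullbackCongr a.inv_hom_id).app _ ≪≫
      (Scheme.Modules.pullbackId _).app _⟩)
  exact DFunLike.congr_fun h (Multiplicative.ofAdd d)

theorem exists_kernel_iso {C : Type*} [Category C] [Abelian C] {S : ShortComplex C} (hS : S.ShortExact) {A : C}
    (e : S.X₂ ≅ A) : Nonempty (S.X₁ ≅ kernel (e.inv ≫ S.g)) := by
  haveI := hS.mono_f
  exact ⟨hS.fIsKernel.conePointUniqueUpToIso (limit.isLimit (parallelPair S.g 0)) ≪≫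
    kernel.mapIso S.g (e.inv ≫ S.g) e (Iso.refl _) (by simp)⟩

section Field

variable {p : ℕ} {k : Type u} [Field k]

theorem nonempty_transfer_tw (a : CohB1.ProjSpace n k ≅ KRR.PY n (Spec (CommRingCat.of k)))
    (hτ : ∀ d : ℤ, Nonempty ((Scheme.Modules.pullback a.hom).obj (Twist.twistOver n (Spec (CommRingCat.of k)) d) ≅
        Twist.twistProjSpace n k d))
    (M : (KRR.PY n (Spec (CommRingCat.of k))).Modules) (d : ℤ) :
    Nonempty ((Scheme.Modules.pullback a.hom).obj (KRR.twF n (Spec (CommRingCat.of k)) d M) ≅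
      CohB1.tensorMod ((Scheme.Modules.pullback a.hom).obj M) (Twist.twistProjSpace n k d)) := by
  obtain ⟨e₁⟩ := H23.PicMul.pull a.hom (Twist.twistOver n (Spec (CommRingCat.of k)) d) M
  obtain ⟨e₂⟩ := hτ d
  obtain ⟨e₃⟩ := H23.PicMul.comm (Twist.twistProjSpace n k d) ((Scheme.Modules.pullback a.hom).obj M)
  exact ⟨e₁ ≪≫ (DCoh.tensorBi.mapIso e₂).app _ ≪≫ e₃⟩

theorem eulerCharLE_transfer (a : CohB1.ProjSpace n k ≅ KRR.PY n (Spec (CommRingCat.of k)))
    (ha : a.hom ≫ KRR.pr n (Spec (CommRingCat.of k)) = CohB1.ProjSpace.toSpec n k)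
    (hτ : ∀ d : ℤ, Nonempty ((Scheme.Modules.pullback a.hom).obj (Twist.twistOver n (Spec (CommRingCat.of k)) d) ≅
        Twist.twistProjSpace n k d))
    {M : (KRR.PY n (Spec (CommRingCat.of k))).Modules} (hM : Coh.IsCoh M) (d : ℤ) :
    FGA.eulerCharLE k (CohB1.ProjSpace n k)
        (CohB1.tensorMod ((Scheme.Modules.pullback a.hom).obj M) (Twist.twistProjSpace n k d)) n =
      @Curv2.euler k _ (KRR.PY n (Spec (CommRingCat.of k))) ⟨KRR.pr n (Spec (CommRingCat.of k))⟩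
        (KRR.twF n _ d M) := by
  let P := KRR.PY n (Spec (CommRingCat.of k))
  letI : P.Over (Spec (CommRingCat.of k)) := ⟨KRR.pr n (Spec (CommRingCat.of k))⟩
  haveI hpP : IsProper (P ↘ Spec (CommRingCat.of k)) := PnFlat.isProper_pr n _
  haveI := CurveCohLib.isNoetherian_of_proper (k := k) (X := P)
  haveI : QuasiSeparatedSpace P := quasiSeparatedSpace_of_quasiSeparated (P ↘ Spec (CommRingCat.of k))
  haveI : IsProper (CohB1.ProjSpace n k ↘ Spec (CommRingCat.of k)) := PnCoh.Chow.isProper_toSpec n _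
  haveI := Pic13Lib.Mumford.isNoetherian_pn (k := k) n
  have hid : Spec.map (CommRingCat.ofHom (algebraMap k k)) = 𝟙 _ := by
    rw [show CommRingCat.ofHom (algebraMap k k) = 𝟙 _ from rfl, Spec.map_id]
  have hpb : IsPullback a.hom (CohB1.ProjSpace n k ↘ Spec (CommRingCat.of k)) (P ↘ Spec (CommRingCat.of k))
      (Spec.map (CommRingCat.ofHom (algebraMap k k))) := by
    rw [hid]
    exact IsPullback.of_horiz_isIso ⟨ha.trans (Category.comp_id _).symm⟩
  obtain ⟨e⟩ := nonempty_transfer_tw a hτ M d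
  rw [Pic13Lib.eulerCharLE_eq (S10829.result k n).le
    (ProjRegular.isCoh_twistBy (ZClosLib.isCoh_pullback a.hom hM) d).1, ← CurveCohLib.euler_congr (k := k) e]
  exact CurveBC.euler_eq k k a.hom hpb _ (isQCoh_twF hM.1 d)

theorem subsingleton_transfer (a : CohB1.ProjSpace n k ≅ KRR.PY n (Spec (CommRingCat.of k)))
    (hτ : ∀ d : ℤ, Nonempty ((Scheme.Modules.pullback a.hom).obj (Twist.twistOver n (Spec (CommRingCat.of k)) d) ≅
        Twist.twistProjSpace n k d))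
    (M : (KRR.PY n (Spec (CommRingCat.of k))).Modules) (d : ℤ) (i : ℕ) (hi : 1 ≤ i)
    (h : Subsingleton (Coh.HH (CohB1.ProjSpace n k)
      (CohB1.tensorMod ((Scheme.Modules.pullback a.hom).obj M) (Twist.twistProjSpace n k d)) i)) :
    Subsingleton (Coh.HH (KRR.PY n (Spec (CommRingCat.of k))) (KRR.twF n (Spec (CommRingCat.of k)) d M) i) := by
  obtain ⟨q, rfl⟩ : ∃ q, i = q + 1 := ⟨i - 1, by omega⟩
  obtain ⟨e⟩ := nonempty_transfer_tw a hτ M d
  exact QCoh.subsingleton_HH_of_iso ((Scheme.Modules.pullbackComp a.inv a.hom).app _ ≪≫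
    (Scheme.Modules.pullbackCongr a.inv_hom_id).app _ ≪≫ (Scheme.Modules.pullbackId _).app _) _
    (PnFlat.subsingleton_HH_pullback_of_iso a.symm _ q (QCoh.subsingleton_HH_of_iso e.symm _ h))

/-- A short exact sequence on `P^n` with free middle term and given Hilbert function on the quotient has a regular
sub object. -/
theorem subsingleton_sub (χ : ℤ → ℤ) (m : ℤ)
    (hm : ∀ (F : (CohB1.ProjSpace n k).Modules) (φ : FlatMod.freeMod (CohB1.ProjSpace n k) p ⟶ F),
      Coh.IsCoh F → Epi φ →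
      (∀ t : ℤ, FGA.eulerCharLE k (CohB1.ProjSpace n k) (CohB1.tensorMod F (Twist.twistProjSpace n k t)) n = χ t) →
      Curv2.IsMRegular k n (kernel φ) m)
    (a : CohB1.ProjSpace n k ≅ KRR.PY n (Spec (CommRingCat.of k)))
    (ha : a.hom ≫ KRR.pr n (Spec (CommRingCat.of k)) = CohB1.ProjSpace.toSpec n k)
    (hτ : ∀ d : ℤ, Nonempty ((Scheme.Modules.pullback a.hom).obj (Twist.twistOver n (Spec (CommRingCat.of k)) d) ≅
        Twist.twistProjSpace n k d))
    {S : ShortComplex (KRR.PY n (Spec (CommRingCat.of k))).Modules} (hS : S.ShortExact)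
    (e : S.X₂ ≅ FlatMod.freeMod _ p) (h₁ : Coh.IsQCoh S.X₁) (h₃ : Coh.IsCoh S.X₃)
    (hχ : ∀ t : ℤ, @Curv2.euler k _ (KRR.PY n (Spec (CommRingCat.of k))) ⟨KRR.pr n (Spec (CommRingCat.of k))⟩
      (KRR.twF n _ t S.X₃) = χ t)
    (i : ℕ) (hi : 1 ≤ i) (hin : i ≤ n) :
    Subsingleton (Coh.HH (KRR.PY n (Spec (CommRingCat.of k)))
      (KRR.twF n (Spec (CommRingCat.of k)) (m - i) S.X₁) i) := by
  haveI := hS.mono_f
  haveI := hS.epi_g
  let P := KRR.PY n (Spec (CommRingCat.of k))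
  let J := Scheme.Modules.pullback a.hom
  haveI : J.IsLeftAdjoint := (Scheme.Modules.pullbackPushforwardAdjunction a.hom).isLeftAdjoint
  have h₂ : Coh.IsQCoh S.X₂ :=
    (QCoh.isQCoh_iff_iso e).2 (QCoh.isQCoh_of_isFinLocFree (KFlatLib.isFinLocFree_freeMod p))
  haveI : Mono (S.map J).f := LimModLib.mono_pullback_of_flat a.hom h₁ h₂ S.f
  have hS' : (S.map J).ShortExact :=
    ShortComplex.ShortExact.mk' (hS.exact.map_of_epi_of_preservesCokernel _ hS.epi_g inferInstance)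
      inferInstance (Grass.epi_pullback_map a.hom S.g)
  let φ : FlatMod.freeMod (CohB1.ProjSpace n k) p ⟶ J.obj S.X₃ :=
    ((J.mapIso e) ≪≫ KFlatLib.pullFreeIso a.hom p).inv ≫ (S.map J).g
  haveI : Epi φ := epi_comp' inferInstance hS'.epi_g
  obtain ⟨eK⟩ := exists_kernel_iso hS' ((J.mapIso e) ≪≫ KFlatLib.pullFreeIso a.hom p)
  have hreg := hm _ φ (ZClosLib.isCoh_pullback a.hom h₃) inferInstance (fun t => by
    rw [eulerCharLE_transfer a ha hτ h₃ t]
    exact hχ t) i hi hin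
  exact subsingleton_transfer a hτ S.X₁ (m - i) i hi
    (QCoh.subsingleton_HH_of_iso
      ((DCoh.tensorBi.mapIso (eK : J.obj S.X₁ ≅ kernel φ)).app (Twist.twistProjSpace n k (m - i))).symm i hreg)

end Field

/-- High twists give good fibres. -/
theorem exists_good (n p : ℕ) (Ψ : Polynomial ℚ) :
    ∃ c₀ : ℕ, ∀ c : ℕ, c₀ ≤ c → Good (Ec.{u} n p c) (Ψ.comp (Polynomial.X + Polynomial.C (c : ℚ))) := by
  obtain ⟨m, hm⟩ := Pic13Lib.exists_kernel_regularity.{u} n p (fun t => ⌊Ψ.eval (t : ℚ)⌋)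
  refine ⟨m.toNat, fun c hc T _ L t h y => ?_⟩
  haveI := isLocallyNoetherian_PY (n := n) T
  haveI := h.epi
  let κ := T.residueField y
  let Tk := Spec (CommRingCat.of κ)
  haveI : IsLocallyNoetherian Tk := inferInstanceAs (IsLocallyNoetherian (Spec (CommRingCat.of κ)))
  haveI := isLocallyNoetherian_PY (n := n) Tk
  have hlf := lf_Ec.{u} (n := n) p (c : ℤ)
  have hK := isCoh_ker hlf h
  let J := Scheme.Modules.pullback (PnFlat.jy n T y)
  let S := (ShortComplex.mk (kernel.ι t) t (kernel.condition t)).map J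
  have hS : S.ShortExact := shortExact_pullback_fibre y (shortExact_fam h) hK.1
    (KZ.LFRes.flf_isCoh (isFinLocFree_ET hlf T)).1 h.coh.1 h.flat
  obtain ⟨eE⟩ := exists_ET_iso (n := n) p (c : ℤ) Tk
  let eX : S.X₂ ≅ KRR.twF n Tk c (FlatMod.freeMod (KRR.PY n Tk) p) :=
    H23.GrassExist.θ (Ec n p c) (PnFlat.jy n T y) (PnBC.ψ_toPn _) ≪≫ eE
  have h1q : Coh.IsQCoh S.X₁ := QCoh.isQCoh_pullback _ hK.1
  have h3c : Coh.IsCoh S.X₃ := ZClosLib.isCoh_pullback _ h.coh
  let U := S.map (Tw n Tk (-(c : ℤ)))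
  have hU : U.ShortExact := KRegK0.shortExact_twF hS _
  let eU : U.X₂ ≅ FlatMod.freeMod (KRR.PY n Tk) p := (Tw n Tk (-(c : ℤ))).mapIso eX ≪≫
    (twF_twF (-(c : ℤ)) (c : ℤ) 0 (by ring) _).some ≪≫ (twF_zero _).some
  obtain ⟨a, ha, hτ⟩ := exists_iso_compat n κ
  have hsub := subsingleton_sub (n := n) (k := κ) (fun t => ⌊Ψ.eval (t : ℚ)⌋) m (fun F φ => hm κ F φ) a ha hτ hU eU
    (isQCoh_twF h1q _) ((QCoh.isCoh_iff_isFP).2 (PnFlat.isFP_twF ((QCoh.isCoh_iff_isFP).1 h3c) _))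
    (fun d => by
      let Y := KRR.PY n Tk
      letI : Y.Over (Spec (CommRingCat.of κ)) := ⟨KRR.pr n Tk⟩
      have h0 := h.hil y (d - c)
      rw [Polynomial.eval_comp, Polynomial.eval_add, Polynomial.eval_X, Polynomial.eval_C, Int.cast_sub,
        Int.cast_natCast, sub_add_cancel] at h0
      rw [← h0, Int.floor_intCast, chi, ← euler_of_isPullback y (PnFlat.isPullback_jy n T y) (isQCoh_twF h.coh.1 _)]
      obtain ⟨e₁⟩ := PnBC.pullback_tw (n := n) (T.fromSpecResidueField y) (d - c) L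
      exact CurveCohLib.euler_congr (k := κ) ((twF_twF d (-(c : ℤ)) (d - c) (by ring) S.X₃).some ≪≫ e₁.symm))
  have hregK : KRR.IsRegSheaf n Tk S.X₁ := by
    obtain ⟨a₀, ha₀⟩ : ∃ a₀ : ℕ, (c : ℤ) = m + a₀ := ⟨((c : ℤ) - m).toNat, by omega⟩
    have hr : KRR.IsRegSheaf n Tk (KRR.twF n Tk (m - c) S.X₁) := fun i hi => by
      obtain hin | hin := Nat.lt_or_ge n i
      · exact RKoszul.rz_of_iso _ (twF_twF (-(i : ℤ)) (m - c) (m - i - c) (by ring) S.X₁).some.symm i
          (PnBox.rz_of_lt (isQCoh_twF h1q _) i hin)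
      · refine RKoszul.rz_of_iso _ ((twF_twF (m - i) (-(c : ℤ)) (m - i - c) (by ring) S.X₁).some ≪≫
          (twF_twF (-(i : ℤ)) (m - c) (m - i - c) (by ring) S.X₁).some.symm) i ?_
        exact (PnFlat.rz_iff (isQCoh_twF (isQCoh_twF h1q _) _) i).2 (hsub i hi hin)
    exact KRegK0.isReg_of_iso ((twF_twF (a₀ : ℤ) (m - c) 0 (by omega) S.X₁).some ≪≫ (twF_zero _).some)
      (isReg_twF _ hr a₀)
  have hregL : KRR.IsRegSheaf n Tk S.X₃ :=
    KRRReg.isReg_quot hS (KRegK0.isReg_of_iso eX.symm (KRegK0.rp_M _ (rp_free Tk p) c).2) (isReg_twF _ hregK 1)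
  have hback : ∀ {M : (KRR.PY n T).Modules}, Coh.IsQCoh M →
      KRR.IsRegSheaf n Tk (J.obj M) → PnFlat.IsFReg 0 M y := fun {M} hM hr i hi => by
    obtain ⟨q, rfl⟩ : ∃ q, i = q + 1 := ⟨i - 1, by have := Finset.mem_Icc.1 hi; omega⟩
    rw [Nat.cast_zero, zero_sub, PnFlat.fibre_twF_iff,
      ← PnFlat.rz_iff (isQCoh_twF (QCoh.isQCoh_pullback _ hM) _)]
    exact hr (q + 1) (by omega)
  exact ⟨hback h.coh.1 hregL, hback hK.1 hregK⟩

end Groth.Agent.Quot15

end
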