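import Groth.Agent.KFlatLib.Scheme.PullTensorCx
import Groth.Agent.ExistEasy.PP.PullSec

/-!
# Inverse images of tensor products in two steps
-/

set_option autoImplicit false
set_option linter.style.haveILetI false
set_option backward.isDefEq.respectTransparency false
set_option backward.isDefEq.respectTransparency.types false
set_option maxHeartbeats 500000

universe u

open CategoryTheory CategoryTheory.Limits AlgebraicGeometry TopologicalSpace Opposite MonoidalCategory

noncomputable section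

namespace Groth.Agent.Quot15

open Groth.Agent Groth.Agent.KFlatLib

variable {X Y Z : Scheme.{u}}

theorem pb_eq (f : X ⟶ Y) {M : Y.Modules} {U : Y.Opens} (s : Γ(M, U)) :
    (pb f (M := M) (U := U) s : Γ((Scheme.Modules.pullback f).obj M, f ⁻¹ᵁ U)) = QCoh.pullSec f M le_rfl s :=
  ((ConcreteCategory.congr_hom (((Scheme.Modules.pullback f).obj M).presheaf.map_id _) _).trans rfl).symm

theorem pb_comp (f : X ⟶ Y) (g : Y ⟶ Z) {G : Z.Modules} {V : Z.Opens} (s : (DCoh.toP.obj G).obj (op V)) :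
    (DCoh.toP.map ((Scheme.Modules.pullbackComp f g).hom.app G)).app (op (f ⁻¹ᵁ g ⁻¹ᵁ V)) (pb f (pb g s)) =
      pb (f ≫ g) s := by
  show ((Scheme.Modules.pullbackComp f g).hom.app G).app (f ⁻¹ᵁ g ⁻¹ᵁ V)
    (pb f (M := (Scheme.Modules.pullback g).obj G) (U := g ⁻¹ᵁ V) (pb g (M := G) (U := V) s)) = pb (f ≫ g) s
  have h1 : (pb g (M := G) (U := V) s : Γ((Scheme.Modules.pullback g).obj G, g ⁻¹ᵁ V)) = QCoh.pullSec g G le_rfl s :=
    pb_eq g s
  rw [h1]
  refine (congrArg (((Scheme.Modules.pullbackComp f g).hom.app G).app (f ⁻¹ᵁ g ⁻¹ᵁ V)) (pb_eq f _)).trans ?_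
  exact (ExistEasy.pullSec_comp f g G le_rfl le_rfl s).trans (pb_eq (f ≫ g) s).symm

theorem toP_comp {A B C : X.Modules} (φ : A ⟶ B) (ψ : B ⟶ C) (U : X.Opens) (s : (DCoh.toP.obj A).obj (op U)) :
    (DCoh.toP.map (φ ≫ ψ)).app (op U) s = (DCoh.toP.map ψ).app (op U) ((DCoh.toP.map φ).app (op U) s) := rfl

/-- The comparisons compose. -/
theorem pullTensorHom_comp (a : X ⟶ Y) (b : Y ⟶ Z) (M N : Z.Modules) :
    (Scheme.Modules.pullback a).map (pullTensorHom b M N) ≫
        pullTensorHom a ((Scheme.Modules.pullback b).obj M) ((Scheme.Modules.pullback b).obj N) ≫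
        (DCoh.tensorBi.map ((Scheme.Modules.pullbackComp a b).hom.app M)).app _ ≫
        (DCoh.tensorBi.obj _).map ((Scheme.Modules.pullbackComp a b).hom.app N) =
      (Scheme.Modules.pullbackComp a b).hom.app _ ≫ pullTensorHom (a ≫ b) M N := by
  let c := (Scheme.Modules.pullbackComp a b).app ((DCoh.tensorBi.obj M).obj N)
  rw [← cancel_epi c.inv]
  rw [show c.inv ≫ (Scheme.Modules.pullbackComp a b).hom.app ((DCoh.tensorBi.obj M).obj N) ≫
    pullTensorHom (a ≫ b) M N = pullTensorHom (a ≫ b) M N from c.inv_hom_id_assoc _]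
  refine pullback_tensor_ext (a ≫ b) fun W s t => ?_
  have hc : (DCoh.toP.map c.inv).app (op ((a ≫ b) ⁻¹ᵁ W)) (pb (a ≫ b) (tmSh M N s t)) =
      pb a (pb b (tmSh M N s t)) := by
    rw [← pb_comp a b (tmSh M N s t)]
    refine (toP_comp c.hom c.inv (a ⁻¹ᵁ b ⁻¹ᵁ W) _).symm.trans ?_
    rw [c.hom_inv_id]
    rfl
  refine Eq.trans ?_ (pullTensorHom_pb (a ≫ b) M N s t).symm
  refine (toP_comp _ _ _ _).trans ?_
  rw [hc]
  refine (toP_comp _ _ _ _).trans ?_
  refine (congrArg _ ((pb_naturality a (U := b ⁻¹ᵁ W) _ _).symm.trans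
    (congrArg (pb a) (pullTensorHom_pb b M N s t)))).trans ?_
  refine (toP_comp _ _ _ _).trans ?_
  refine (congrArg _ (pullTensorHom_pb a _ _ (U := b ⁻¹ᵁ W) (pb b s) (pb b t))).trans ?_
  refine (toP_comp _ _ _ _).trans ?_
  refine (congrArg _ (tmSh_naturality_left _ _ _ _)).trans ?_
  refine (tmSh_naturality_right _ _ _ _).trans ?_
  exact congrArg₂ (fun x y => tmSh _ _ x y) (pb_comp a b s) (pb_comp a b t)

end Groth.Agent.Quot15

end
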