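import Groth.Agent.Quot15.Core
import Groth.Agent.Quot15.FibreReg
import Groth.Agent.Quot15.TensorComp

/-!
# Twisting families of quotients; families of quotients of any twist of a free module are representable
-/

set_option autoImplicit false
set_option linter.style.haveILetI false
set_option linter.unusedSectionVars false
set_option backward.isDefEq.respectTransparency false
set_option backward.isDefEq.respectTransparency.types false
set_option maxHeartbeats 500000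

universe u

open CategoryTheory CategoryTheory.Limits AlgebraicGeometry TopologicalSpace

noncomputable section

namespace Groth.Agent.Quot15

open Groth.Agent Groth.Agent.H28 Groth.Agent.H28.KRRTw Groth.Agent.H28.KRRReg Groth.Agent.KFlatLib

section generic

variable {X Y Z : Scheme.{u}}

theorem pullTensor_θ (a : X ⟶ Y) (g : Y ⟶ Z) (g' : X ⟶ Z) (h : a ≫ g = g') (M N : Z.Modules) :
    (Scheme.Modules.pullback a).map (pullTensorHom g M N) ≫
        pullTensorHom a ((Scheme.Modules.pullback g).obj M) ((Scheme.Modules.pullback g).obj N) ≫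
        (DCoh.tensorBi.map (H23.GrassExist.θ M a h).hom).app _ ≫
        (DCoh.tensorBi.obj _).map (H23.GrassExist.θ N a h).hom =
      (H23.GrassExist.θ ((DCoh.tensorBi.obj M).obj N) a h).hom ≫ pullTensorHom g' M N := by
  subst h
  have hθ : ∀ M : Z.Modules, (H23.GrassExist.θ M a (rfl : a ≫ g = a ≫ g)).hom =
      (Scheme.Modules.pullbackComp a g).hom.app M := fun M => by
    simp [H23.GrassExist.θ, Scheme.Modules.pullbackCongr]
  rw [hθ, hθ, hθ]
  exact pullTensorHom_comp a g M N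

/-- A quotient of an inverse image, tensored with an inverse image. -/
def twQ (g : Y ⟶ Z) (M : Z.Modules) {N : Z.Modules} {L : Y.Modules} (t : (Scheme.Modules.pullback g).obj N ⟶ L) :
    (Scheme.Modules.pullback g).obj ((DCoh.tensorBi.obj M).obj N) ⟶
      (DCoh.tensorBi.obj ((Scheme.Modules.pullback g).obj M)).obj L :=
  pullTensorHom g M N ≫ (DCoh.tensorBi.obj _).map t

theorem quotBC_twQ (a : X ⟶ Y) (g : Y ⟶ Z) (g' : X ⟶ Z) (h : a ≫ g = g') (M : Z.Modules) {N : Z.Modules}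
    {L : Y.Modules} (t : (Scheme.Modules.pullback g).obj N ⟶ L) :
    Same (Grass.quotBC h (twQ g M t)) (twQ g' M (Grass.quotBC h t)) := by
  have hq := H23.GrassExist.θ_hom_quotBC (E := N) h t
  generalize Grass.quotBC h t = q at hq ⊢
  refine ⟨asIso (pullTensorHom a _ L) ≪≫
    (DCoh.tensorBi.mapIso (H23.GrassExist.θ M a h)).app ((Scheme.Modules.pullback a).obj L), ?_⟩
  rw [← cancel_epi (H23.GrassExist.θ _ a h).hom, ← Category.assoc, H23.GrassExist.θ_hom_quotBC h]
  simp only [twQ, Functor.map_comp, Category.assoc, Iso.trans_hom, asIso_hom, Iso.app_hom,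
    Functor.mapIso_hom]
  rw [← Category.assoc (H23.GrassExist.θ ((DCoh.tensorBi.obj M).obj N) a h).hom, ← pullTensor_θ a g g' h M N]
  simp only [Category.assoc]
  congr 1
  have hn : (Scheme.Modules.pullback a).map ((DCoh.tensorBi.obj _).map t) ≫ pullTensorHom a _ L =
      pullTensorHom a ((Scheme.Modules.pullback g).obj M) _ ≫
        (DCoh.tensorBi.obj _).map ((Scheme.Modules.pullback a).map t) :=
    ((pullTensorBiIso a).hom.app ((Scheme.Modules.pullback g).obj M)).naturality t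
  rw [← Category.assoc, hn, Category.assoc]
  congr 1
  rw [← Functor.map_comp, hq]
  exact (DCoh.tensorBi.map (H23.GrassExist.θ M a h).hom).naturality _

theorem Same.twQ (g : Y ⟶ Z) (M : Z.Modules) {N : Z.Modules} {L L' : Y.Modules}
    {t : (Scheme.Modules.pullback g).obj N ⟶ L} {t' : (Scheme.Modules.pullback g).obj N ⟶ L'} (h : Same t t') :
    Same (twQ g M t) (twQ g M t') := by
  obtain ⟨e, rfl⟩ := h
  refine ⟨(DCoh.tensorBi.obj _).mapIso e, ?_⟩
  rw [Quot15.twQ, Quot15.twQ, Category.assoc, Functor.mapIso_hom, Functor.map_comp]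

theorem quotBC_map (a : X ⟶ Y) (g : Y ⟶ Z) (g' : X ⟶ Z) (h : a ≫ g = g') {N' N : Z.Modules} (φ : N' ⟶ N)
    {L : Y.Modules} (t : (Scheme.Modules.pullback g).obj N ⟶ L) :
    Grass.quotBC h ((Scheme.Modules.pullback g).map φ ≫ t) =
      (Scheme.Modules.pullback g').map φ ≫ Grass.quotBC h t := by
  subst h
  rw [← cancel_epi (H23.GrassExist.θ N' a rfl).hom, H23.GrassExist.θ_hom_quotBC, Functor.map_comp,
    ← H23.GrassExist.θ_hom_quotBC (rfl : a ≫ g = a ≫ g) t]
  generalize Grass.quotBC (rfl : a ≫ g = a ≫ g) t = q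
  rw [← Category.assoc, ← Category.assoc]
  have hθ : ∀ M : Z.Modules, (H23.GrassExist.θ M a (rfl : a ≫ g = a ≫ g)).hom =
      (Scheme.Modules.pullbackComp a g).hom.app M := fun M => by
    simp [H23.GrassExist.θ, Scheme.Modules.pullbackCongr]
  rw [hθ, hθ]
  exact congrArg (· ≫ q) ((Scheme.Modules.pullbackComp a g).hom.naturality φ)

end generic

variable {n : ℕ} {E E' : (CohB1.ProjSpace n (ULift.{u} ℤ)).Modules}

/-! ### Changing the module -/

theorem Fam.comp_iso (φ : E' ≅ E) {Φ : Polynomial ℚ} {T : Scheme.{u}} {L : (KRR.PY n T).Modules} {t : ET E T ⟶ L}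
    (h : Fam Φ t) : Fam Φ ((Scheme.Modules.pullback (toPn n T)).map φ.hom ≫ t) :=
  ⟨haveI := h.epi; inferInstance, h.coh, h.flat, h.hil⟩

theorem Rep.of_iso (φ : E' ≅ E) {Φ : Polynomial ℚ} {Q : Scheme.{u}} {U : (KRR.PY n Q).Modules} {tQ : ET E Q ⟶ U}
    (h : Rep E Φ Q tQ) : Rep E' Φ Q ((Scheme.Modules.pullback (toPn n Q)).map φ.hom ≫ tQ) := by
  obtain ⟨hQ, hfam, huniv⟩ := h
  refine ⟨hQ, hfam.comp_iso φ, fun T _ L t ht => ?_⟩
  let t' := (Scheme.Modules.pullback (toPn n T)).map φ.inv ≫ t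
  have ht' : Fam Φ t' := ht.comp_iso φ.symm
  have key : ∀ g : T ⟶ Q,
      Same (pull g ((Scheme.Modules.pullback (toPn n Q)).map φ.hom ≫ tQ)) t ↔ Same (pull g tQ) t' := fun g => by
    rw [pull, quotBC_map]
    refine ⟨fun ⟨e, he⟩ => ⟨e, ?_⟩, fun ⟨e, he⟩ => ⟨e, ?_⟩⟩
    · simp only [t', ← he, ← Category.assoc, ← Functor.map_comp]
      simp
    · rw [Category.assoc, he]
      simp only [t', ← Category.assoc, ← Functor.map_comp]
      simp
  obtain ⟨g, hg, hu⟩ := huniv T L t' ht'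
  exact ⟨g, (key g).2 hg, fun g' hg' => hu g' ((key g').1 hg')⟩

/-! ### Twisting -/

variable (T : Scheme.{u})

theorem exists_tw_comp_iso (a b c : ℤ) (h : b + a = c) :
    Nonempty (Tw n T a ⋙ Tw n T b ≅ Tw n T c) := by
  subst h
  obtain ⟨e⟩ := twistOver_add (n := n) (T := T) b a
  exact ⟨(((tensorAssocSch (KRR.PY n T)).app (Twist.twistOver n T b)).app (Twist.twistOver n T a)).symm ≪≫
    DCoh.tensorBi.mapIso e⟩

theorem exists_tw_zero_iso : Nonempty (Tw n T 0 ≅ 𝟭 _) := by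
  obtain ⟨e⟩ := twistOver_zero (n := n) (T := T)
  exact ⟨DCoh.tensorBi.mapIso e ≪≫
    ((tensorBiFlipIso (KRR.PY n T)).app (Coh.structureModule (KRR.PY n T))).symm ≪≫
    tensorStructureIso (KRR.PY n T)⟩

theorem isEquivalence_tw (d : ℤ) : (Tw n T d).IsEquivalence := by
  obtain ⟨e₁⟩ := exists_tw_comp_iso (n := n) T d (-d) 0 (by ring)
  obtain ⟨e₂⟩ := exists_tw_comp_iso (n := n) T (-d) d 0 (by ring)
  obtain ⟨e₀⟩ := exists_tw_zero_iso (n := n) T
  exact (CategoryTheory.Equivalence.mk (Tw n T d) (Tw n T (-d)) (e₁ ≪≫ e₀).symm (e₂ ≪≫ e₀)).isEquivalence_functor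

variable {T}

theorem chi_tw (L : (KRR.PY n T).Modules) (d : ℤ) (y : T) (m : ℤ) :
    chi T (KRR.twF n T d L) y m = chi T L y (m + d) := by
  letI : ((KRR.pr n T).fiber y).Over (Spec (CommRingCat.of (T.residueField y))) :=
    ⟨(KRR.pr n T).fiberToSpecResidueField y⟩
  exact CurveCohLib.euler_congr (k := T.residueField y)
    ((Scheme.Modules.pullback ((KRR.pr n T).fiberι y)).mapIso (twF_twF m d (m + d) rfl L).some)

theorem hilIs_tw {Φ : Polynomial ℚ} (L : (KRR.PY n T).Modules) (d : ℤ) :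
    HilIs (Φ.comp (Polynomial.X + Polynomial.C (d : ℚ))) (KRR.twF n T d L) ↔ HilIs Φ L := by
  refine ⟨fun h y m => ?_, fun h y m => ?_⟩
  · have := h y (m - d)
    rwa [chi_tw, sub_add_cancel, Polynomial.eval_comp, Polynomial.eval_add, Polynomial.eval_X, Polynomial.eval_C,
      Int.cast_sub, sub_add_cancel] at this
  · rw [chi_tw, h y (m + d), Polynomial.eval_comp, Polynomial.eval_add, Polynomial.eval_X, Polynomial.eval_C,
      Int.cast_add]

theorem isCoh_twF {L : (KRR.PY n T).Modules} [IsLocallyNoetherian T] (hL : Coh.IsCoh L) (d : ℤ) :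
    Coh.IsCoh (KRR.twF n T d L) :=
  haveI := isLocallyNoetherian_PY (n := n) T
  QCoh.isCoh_iff_isFP.2 (PnFlat.isFP_twF (QCoh.isCoh_iff_isFP.1 hL) d)

/-- The twist of the module. -/
abbrev twE (d : ℤ) (E : (CohB1.ProjSpace n (ULift.{u} ℤ)).Modules) : (CohB1.ProjSpace n (ULift.{u} ℤ)).Modules :=
  (DCoh.tensorBi.obj (Twist.twistProjSpace n (ULift.{u} ℤ) d)).obj E

/-- The twist of a quotient. -/
def tw (d : ℤ) {L : (KRR.PY n T).Modules} (t : ET E T ⟶ L) : ET (twE d E) T ⟶ KRR.twF n T d L :=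
  twQ (toPn n T) (Twist.twistProjSpace n (ULift.{u} ℤ) d) t

theorem tw_def (d : ℤ) {L : (KRR.PY n T).Modules} (t : ET E T ⟶ L) :
    tw d t = pullTensorHom (toPn n T) _ E ≫ (Tw n T d).map t := rfl

theorem same_tw_iff (d : ℤ) {L L' : (KRR.PY n T).Modules} {t : ET E T ⟶ L} {t' : ET E T ⟶ L'} :
    Same (tw d t) (tw d t') ↔ Same t t' := by
  refine ⟨fun ⟨e, he⟩ => ?_, fun h => h.twQ _ _⟩
  haveI := isEquivalence_tw (n := n) T d
  refine ⟨(Tw n T d).preimageIso e, (Tw n T d).map_injective ?_⟩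
  rw [tw_def, tw_def, Category.assoc, cancel_epi] at he
  rw [Functor.map_comp, Functor.preimageIso_hom, Functor.map_preimage]
  exact he

theorem exists_same_tw (d : ℤ) {L' : (KRR.PY n T).Modules} (t' : ET (twE d E) T ⟶ L') :
    ∃ (L : (KRR.PY n T).Modules) (t : ET E T ⟶ L), Same (tw d t) t' := by
  haveI := isEquivalence_tw (n := n) T d
  let e := (Tw n T d).objObjPreimageIso L'
  refine ⟨_, (Tw n T d).preimage (inv (pullTensorHom (toPn n T) _ E) ≫ t' ≫ e.inv), e, ?_⟩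
  rw [tw_def, Functor.map_preimage, IsIso.hom_inv_id_assoc, Category.assoc, e.inv_hom_id, Category.comp_id]

theorem same_pull_tw {T' : Scheme.{u}} (g : T' ⟶ T) (d : ℤ) {L : (KRR.PY n T).Modules} (t : ET E T ⟶ L) :
    Same (pull g (tw d t)) (tw d (pull g t)) :=
  quotBC_twQ _ _ _ _ _ t

theorem fam_tw [IsLocallyNoetherian T] {Φ : Polynomial ℚ} {L : (KRR.PY n T).Modules} {t : ET E T ⟶ L} (d : ℤ)
    (h : Fam Φ t) : Fam (Φ.comp (Polynomial.X + Polynomial.C (d : ℚ))) (tw d t) where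
  epi := by
    haveI := isEquivalence_tw (n := n) T d
    haveI := h.epi
    rw [tw_def]
    exact epi_comp _ _
  coh := isCoh_twF h.coh d
  flat := PnFlat.isFlatOver_twF h.flat d
  hil := (hilIs_tw L d).2 h.hil

theorem fam_of_tw [IsLocallyNoetherian T] {Φ : Polynomial ℚ} {L : (KRR.PY n T).Modules} {t : ET E T ⟶ L} (d : ℤ)
    (h : Fam (Φ.comp (Polynomial.X + Polynomial.C (d : ℚ))) (tw d t)) : Fam Φ t := by
  haveI := isEquivalence_tw (n := n) T d
  let e := (twF_twF (-d) d 0 (by ring) L).some ≪≫ (twF_zero L).some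
  refine ⟨?_, isCoh_of_iso e (isCoh_twF h.coh _),
    LimModLib.isFlatOver_of_iso _ e (PnFlat.isFlatOver_twF h.flat _), (hilIs_tw L d).1 h.hil⟩
  haveI := h.epi
  rw [tw_def] at this
  haveI := @epi_of_epi _ _ _ _ _ _ ((Tw n T d).map t) this
  exact (Tw n T d).epi_of_epi_map this

/-- Families of quotients of a twist are twists of families. -/
theorem Rep.of_tw (d : ℤ) {Φ : Polynomial ℚ} {Q : Scheme.{u}} {U : (KRR.PY n Q).Modules}
    {tQ : ET (twE d E) Q ⟶ U} (h : Rep (twE d E) (Φ.comp (Polynomial.X + Polynomial.C (d : ℚ))) Q tQ) :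
    ∃ (U' : (KRR.PY n Q).Modules) (tQ' : ET E Q ⟶ U'), Rep E Φ Q tQ' := by
  obtain ⟨hQ, hfam, huniv⟩ := h
  obtain ⟨U', tQ', hs⟩ := exists_same_tw d tQ
  refine ⟨U', tQ', hQ, fam_of_tw d (hfam.of_same hs.symm), fun T _ L t ht => ?_⟩
  obtain ⟨g, hg, hu⟩ := huniv T _ _ (fam_tw d ht)
  have key : ∀ g : T ⟶ Q, Same (pull g tQ') t ↔ Same (pull g tQ) (tw d t) := fun g => by
    rw [← same_tw_iff d]
    exact ⟨fun h => (hs.pull g).symm.trans ((same_pull_tw g d tQ').trans h),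
      fun h => ((same_pull_tw g d tQ').symm.trans (hs.pull g)).trans h⟩
  exact ⟨g, (key g).2 hg, fun g' hg' => hu g' ((key g').1 hg')⟩

theorem exists_twE_iso (p : ℕ) (d ν c : ℤ) (h : d + ν = c) :
    Nonempty (twE d (Ec.{u} n p ν) ≅ Ec n p c) := by
  subst h
  obtain ⟨e⟩ := PnCoh.Finite.twist_tensor_iso (crd.{u} n) crd_mem crd_cover d ν
  obtain ⟨a⟩ := H23.PicMul.assoc (Twist.twistProjSpace n (ULift.{u} ℤ) d) (Twist.twistProjSpace n (ULift.{u} ℤ) ν)
    (FlatMod.freeMod _ p)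
  exact ⟨a.symm ≪≫ (DCoh.tensorBi.mapIso e).app _⟩

variable (n) in
/-- Families of quotients of any twist of a free module with given Hilbert polynomial are representable. -/
theorem exists_rep (p : ℕ) (ν : ℤ) (Φ : Polynomial ℚ) :
    ∃ (Q : Scheme.{u}) (U : (KRR.PY n Q).Modules) (tQ : ET (Ec n p ν) Q ⟶ U) (M : ℕ)
      (c : Q ⟶ CohB1.ProjSpaceOver M BZ.{u}), Rep (Ec n p ν) Φ Q tQ ∧ IsClosedImmersion c := by
  obtain ⟨c₀, hc₀⟩ := exists_good.{u} n p (Φ.comp (Polynomial.X - Polynomial.C (ν : ℚ)))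
  obtain ⟨Q, U, tQ, M, c, hrep, hc⟩ := exists_core (lf_Ec p (c₀ : ℤ)) (rp_ET BZ p c₀) (hc₀ c₀ le_rfl)
  obtain ⟨φ⟩ := exists_twE_iso (n := n) p ((c₀ : ℤ) - ν) ν c₀ (sub_add_cancel _ ν)
  have hΦ : Φ.comp (Polynomial.X + Polynomial.C ((((c₀ : ℤ) - ν : ℤ)) : ℚ)) =
      (Φ.comp (Polynomial.X - Polynomial.C (ν : ℚ))).comp (Polynomial.X + Polynomial.C (c₀ : ℚ)) := by
    rw [Polynomial.comp_assoc, Int.cast_sub, Int.cast_natCast, map_sub, Polynomial.sub_comp, Polynomial.X_comp,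
      Polynomial.C_comp]
    congr 1
    ring
  obtain ⟨U', tQ', hrep'⟩ := Rep.of_tw ((c₀ : ℤ) - ν) (hΦ ▸ hrep.of_iso φ)
  exact ⟨Q, U', tQ', M, c, hrep', hc⟩

end Groth.Agent.Quot15

end
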