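import Groth.Agent.Quot15.XLift
import Groth.Agent.Quot15.Twist
import Groth.Agent.VanLoc.Main

/-!
# Families of quotients on a closed subscheme with given Hilbert polynomial are representable
-/

set_option autoImplicit false
set_option linter.style.haveILetI false
set_option linter.unusedSectionVars false
set_option backward.isDefEq.respectTransparency false
set_option backward.isDefEq.respectTransparency.types false
set_option maxHeartbeats 500000

universe u

open CategoryTheory CategoryTheory.Limits AlgebraicGeometry TopologicalSpace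

noncomputable section

namespace Groth.Agent.Quot15

open Groth.Agent Groth.Agent.H28 Groth.Agent.H28.KRRTw

theorem van_iff_exists_fac {Y Y' : Scheme.{u}} (f : Y' ⟶ Y) {M A B : Y.Modules} (a : M ⟶ A) [Epi a] (b : M ⟶ B) :
    VanLoc.Van (kernel.ι a ≫ b) f ↔
      ∃ v, (Scheme.Modules.pullback f).map a ≫ v = (Scheme.Modules.pullback f).map b := by
  haveI := (Scheme.Modules.pullbackPushforwardAdjunction f).left_adjoint_additive
  haveI := (Scheme.Modules.pullbackPushforwardAdjunction f).leftAdjoint_preservesColimits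
  let J := Scheme.Modules.pullback f
  refine ⟨fun h => ?_, fun ⟨v, hv⟩ => ?_⟩
  · have hc := isColimitCoforkMapOfIsColimit' J (kernel.condition a)
      (Abelian.epiIsCokernelOfKernel _ (limit.isLimit (parallelPair a 0)))
    obtain ⟨v, hv⟩ := CokernelCofork.IsColimit.desc' hc (J.map b) (by rw [← Functor.map_comp]; exact h)
    exact ⟨v, hv⟩
  · show J.map (kernel.ι a ≫ b) = 0
    rw [Functor.map_comp, ← hv, ← Category.assoc, ← Functor.map_comp, kernel.condition, Functor.map_zero, zero_comp]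

theorem exists_fac_quotBC_iff {Y Y' P : Scheme.{u}} (f : Y' ⟶ Y) {g : Y ⟶ P} {g' : Y' ⟶ P} (h : f ≫ g = g')
    {N : P.Modules} {A B : Y.Modules} (a : (Scheme.Modules.pullback g).obj N ⟶ A)
    (b : (Scheme.Modules.pullback g).obj N ⟶ B) :
    (∃ v, (Scheme.Modules.pullback f).map a ≫ v = (Scheme.Modules.pullback f).map b) ↔
      ∃ v, Grass.quotBC h a ≫ v = Grass.quotBC h b := by
  rw [← H23.GrassExist.θ_hom_quotBC h a, ← H23.GrassExist.θ_hom_quotBC h b]
  refine exists_congr fun v => ?_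
  rw [Category.assoc, cancel_epi]

theorem fac_iff_of_same {X : Scheme.{u}} {M A A' B B' : X.Modules} {a : M ⟶ A} {a' : M ⟶ A'} {b : M ⟶ B}
    {b' : M ⟶ B'} (ha : Same a a') (hb : Same b b') : (∃ v, a ≫ v = b) ↔ ∃ v, a' ≫ v = b' := by
  obtain ⟨e, rfl⟩ := ha
  obtain ⟨e', rfl⟩ := hb
  refine ⟨fun ⟨v, hv⟩ => ⟨e.inv ≫ v ≫ e'.hom, by rw [← hv]; simp⟩, fun ⟨v, hv⟩ => ⟨e.hom ≫ v ≫ e'.inv, ?_⟩⟩
  rw [← cancel_mono e'.hom]
  simpa using hv

variable {n : ℕ} {S X : Scheme.{u}} [IsLocallyNoetherian S] (f : X ⟶ S) (i : X ⟶ KRR.PY n S) [IsClosedImmersion i]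
  (hf : i ≫ CohB1.ProjSpaceOver.toBase n S = f) {E₀ : (CohB1.ProjSpace n (ULift.{u} ℤ)).Modules}
  (hlf : FlatMod.IsFinLocFree E₀) {E : X.Modules} (hE : Coh.IsCoh E)
  (σ : (Scheme.Modules.pullback (i ≫ toPn n S)).obj E₀ ⟶ E) [Epi σ]

/-- A universal family of quotients on the closed subscheme. -/
def RepX (Φ : Polynomial ℚ) (Q : Over S) {U : (PicF.XT f Q).Modules} (tU : FGA.ET f E Q ⟶ U) : Prop :=
  IsLocallyNoetherian Q.left ∧ FamX f i Φ tU ∧ ∀ (T : Over S) [IsLocallyNoetherian T.left]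
    (L : (PicF.XT f T).Modules) (t : FGA.ET f E T ⟶ L), FamX f i Φ t → ∃! g : T ⟶ Q, Same (pullX f g tU) t

/-- The product with `S`, over `S`. -/
abbrev prodS (Q₀ S : Scheme.{u}) : Over S :=
  Over.mk (pullback.snd (specULiftZIsTerminal.from Q₀) (specULiftZIsTerminal.from S))

include hf hlf hE σ in
theorem exists_repX {Φ : Polynomial ℚ} {Q₀ : Scheme.{u}} {U₀ : (KRR.PY n Q₀).Modules} {t₀ : ET E₀ Q₀ ⟶ U₀}
    (h₀ : Rep E₀ Φ Q₀ t₀) {M : ℕ} (c : Q₀ ⟶ CohB1.ProjSpaceOver M BZ.{u}) (hc : IsClosedImmersion c) :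
    ∃ (Q : Over S) (U : (PicF.XT f Q).Modules) (tU : FGA.ET f E Q ⟶ U), RepX f i (E := E) Φ Q tU ∧
      ∃ (r : ℕ) (d : Q.left ⟶ CohB1.ProjSpaceOver r S),
        IsClosedImmersion d ∧ d ≫ CohB1.ProjSpaceOver.toBase r S = Q.hom := by
  obtain ⟨hQ₀, hfam₀, huniv⟩ := h₀
  haveI := hc
  haveI := isNoetherianRing_Zu.{u}
  haveI := PnFlat.isProper_pr.{u} M BZ.{u}
  haveI : LocallyOfFiniteType (specULiftZIsTerminal.from Q₀) := by
    rw [specULiftZIsTerminal.hom_ext (specULiftZIsTerminal.from Q₀) (c ≫ KRR.pr M BZ)]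
    infer_instance
  let QS := prodS Q₀ S
  let pr₁ : QS.left ⟶ Q₀ := pullback.fst _ _
  haveI : LocallyOfFiniteType QS.hom := inferInstanceAs (LocallyOfFiniteType (pullback.snd _ _))
  haveI : IsLocallyNoetherian QS.left := LocallyOfFiniteType.isLocallyNoetherian QS.hom
  haveI := isLocallyNoetherian_PY (n := n) S
  haveI := isLocallyNoetherian_PY (n := n) QS.left
  haveI hcl : ∀ T : Over S, IsClosedImmersion (iT f i T) := isClosedImmersion_iT f i hf
  obtain ⟨η₀, -, hη⟩ := exists_kil_lift i (g := toPn n S) rfl σ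
  have hFc : Coh.IsCoh ((Scheme.Modules.pushforward i).obj E) := QCoh.isCoh_pushforward_finite _ hE
  have hlift : ∀ T : Over S, Lift f i σ (pull T.hom η₀) (𝟙 (FGA.ET f E T)) := fun T => lift_pull_η₀ hf hη hFc
  haveI : Epi η₀ := by
    haveI : Epi (Grass.quotBC (rfl : i ≫ toPn n S = _) η₀) := hη.symm.epi
    haveI : Epi ((Scheme.Modules.pullback i).map η₀) := by
      rw [← H23.GrassExist.θ_hom_quotBC (rfl : i ≫ toPn n S = _)]
      infer_instance
    exact epi_of_kil i (KZ.LFRes.flf_isCoh (isFinLocFree_ET hlf S)).1 hFc.1 η₀ (kil_push i E)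
  let tS := pull pr₁ t₀
  have hS : Fam Φ tS := hfam₀.pull pr₁
  let a := pull QS.hom η₀
  haveI : Epi a := H23.GrassFlag.epi_quotBC _ η₀
  haveI := PnFlat.isProper_pr n QS.left
  haveI := PnFlat.lfp_pr n QS.left
  have hA : Coh.IsCoh ((Scheme.Modules.pullback (PnBC.ψ (n := n) QS.hom)).obj
      ((Scheme.Modules.pushforward i).obj E)) := ZClosLib.isCoh_pullback _ hFc
  have hK : Coh.IsCoh (kernel a) := QCoh.isCoh_kernel (KZ.LFRes.flf_isCoh (isFinLocFree_ET hlf _)) hA a
  obtain ⟨Z, iz, hiz, hzuniv⟩ :=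
    VanLoc.main (KRR.pr n QS.left) (kernel.ι a ≫ tS) hK.1 (QCoh.isCoh_iff_isFP.1 hS.coh) hS.flat
  haveI := hiz
  haveI : IsLocallyNoetherian Z := LocallyOfFiniteType.isLocallyNoetherian iz
  have key : ∀ (T : Over S) (h : T.left ⟶ QS.left), h ≫ QS.hom = T.hom →
      ((∃ l : T.left ⟶ Z, l ≫ iz = h) ↔ ∃ v, pull T.hom η₀ ≫ v = pull h tS) := fun T h hw => by
    rw [hzuniv]
    refine Iff.trans ⟨fun hv => hv _ _ _ (SeesawX.PnFibre.isPullback_ψ h),
      VanLoc.vanAt_of_square _ _ (SeesawX.PnFibre.isPullback_ψ h)⟩ ?_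
    refine (van_iff_exists_fac _ a tS).trans ((exists_fac_quotBC_iff _ (PnBC.ψ_toPn h) a tS).trans
      (fac_iff_of_same ?_ (Same.refl _)))
    exact (same_pull_pull η₀ QS.hom h).symm.trans (same_pull_congr η₀ hw)
  let Q : Over S := Over.mk (iz ≫ QS.hom)
  haveI : IsLocallyNoetherian Q.left := inferInstanceAs (IsLocallyNoetherian Z)
  haveI := isLocallyNoetherian_PY (n := n) Q.left
  obtain ⟨v, hv⟩ := (key Q iz rfl).1 ⟨𝟙 _, Category.id_comp _⟩
  let tZ := pull iz tS
  have hZ : Fam Φ tZ := hS.pull iz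
  haveI := hZ.epi
  haveI : Epi v := epi_of_epi_fac hv
  obtain ⟨U, tU, hU⟩ := exists_lift_down (hlift Q) (ZClosLib.isCoh_pullback _ hFc).1 hZ.coh.1 v hv
  have hfamU : FamX f i Φ tU := famX_of_fam hU hZ
  refine ⟨Q, U, tU, ⟨inferInstance, hfamU, fun T _ L t ht => ?_⟩, M,
    pullback.lift (iz ≫ pr₁ ≫ c ≫ toPn M BZ) Q.hom (specULiftZIsTerminal.hom_ext _ _), ?_,
    pullback.lift_snd _ _ _⟩
  · obtain ⟨w, hw⟩ := exists_lift (σ := σ) t
    have hwF : Fam Φ w := fam_of_famX hlf hw ht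
    obtain ⟨g₀, hg₀, hu₀⟩ := huniv _ _ w hwF
    let gS : T.left ⟶ QS.left := pullback.lift g₀ T.hom (specULiftZIsTerminal.hom_ext _ _)
    have hgS : gS ≫ QS.hom = T.hom := pullback.lift_snd _ _ _
    have hgS' : gS ≫ pr₁ = g₀ := pullback.lift_fst _ _ _
    have hs : Same (pull gS tS) w :=
      ((same_pull_pull t₀ pr₁ gS).symm.trans (same_pull_congr t₀ hgS')).trans hg₀
    obtain ⟨v', hv'⟩ := hw.exists_fac (hlift T)
    obtain ⟨l, hl⟩ := (key T gS hgS).2 ((fac_iff_of_same (Same.refl _) hs).2 ⟨v', hv'⟩)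
    have hlw : l ≫ Q.hom = T.hom := by
      show l ≫ iz ≫ QS.hom = T.hom
      rw [← Category.assoc, hl, hgS]
    have cmp : ∀ g : T ⟶ Q, Same (pullX f g tU) t ↔ Same (pull (g.left ≫ iz ≫ pr₁) t₀) w := fun g => by
      refine ((hU.pull g hZ.coh).same_iff hw).symm.trans ?_
      have h1 : Same (pull g.left tZ) (pull (g.left ≫ iz ≫ pr₁) t₀) :=
        ((same_pull_pull tS iz g.left).symm.trans (same_pull_pull t₀ pr₁ (g.left ≫ iz)).symm).trans
          (same_pull_congr t₀ (Category.assoc _ _ _))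
      exact ⟨fun h => h1.symm.trans h, fun h => h1.trans h⟩
    refine ⟨Over.homMk l hlw, (cmp _).2 ?_, fun g hg => ?_⟩
    · refine (same_pull_congr t₀ ?_).trans hg₀
      show l ≫ iz ≫ pr₁ = g₀
      rw [← Category.assoc, hl, hgS']
    · have h1 : g.left ≫ iz ≫ pr₁ = g₀ := hu₀ _ ((cmp g).1 hg)
      refine Over.OverMorphism.ext ((cancel_mono iz).1 (Eq.trans ?_ hl.symm))
      refine pullback.hom_ext ?_ ?_
      · exact (Category.assoc _ _ _).trans (h1.trans hgS'.symm)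
      · exact (Category.assoc _ _ _).trans ((Over.w g).trans hgS.symm)
  · haveI : IsIso (toPn M BZ.{u}) := by
      have hI : specULiftZIsTerminal.from BZ.{u} = 𝟙 _ := specULiftZIsTerminal.hom_ext _ _
      show IsIso (pullback.fst (CohB1.ProjSpace.toSpec M (ULift.{u} ℤ)) (specULiftZIsTerminal.from BZ.{u}))
      rw [hI]
      infer_instance
    let c' : Q₀ ⟶ CohB1.ProjSpace M (ULift.{u} ℤ) := c ≫ toPn M BZ
    have hsq : IsPullback (pullback.fst (specULiftZIsTerminal.from Q₀) (specULiftZIsTerminal.from S))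
        (pullback.lift (pr₁ ≫ c') QS.hom (specULiftZIsTerminal.hom_ext _ _) : QS.left ⟶ CohB1.ProjSpaceOver M S) c'
        (toPn M S) := by
      refine IsPullback.of_bot ?_ (pullback.lift_fst _ _ _).symm
        (IsPullback.of_hasPullback (CohB1.ProjSpace.toSpec M (ULift.{u} ℤ)) (specULiftZIsTerminal.from S))
      rw [specULiftZIsTerminal.hom_ext (c' ≫ CohB1.ProjSpace.toSpec M (ULift.{u} ℤ)) (specULiftZIsTerminal.from Q₀),
        pullback.lift_snd]
      exact IsPullback.of_hasPullback _ _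
    haveI := MorphismProperty.of_isPullback (P := @IsClosedImmersion) hsq inferInstance
    have he : pullback.lift (iz ≫ pr₁ ≫ c ≫ toPn M BZ) Q.hom (specULiftZIsTerminal.hom_ext _ _) =
        iz ≫ (pullback.lift (pr₁ ≫ c') QS.hom (specULiftZIsTerminal.hom_ext _ _) :
          QS.left ⟶ CohB1.ProjSpaceOver M S) := by
      refine pullback.hom_ext ?_ ?_
      · rw [pullback.lift_fst, Category.assoc, pullback.lift_fst]
      · rw [pullback.lift_snd, Category.assoc, pullback.lift_snd]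
        rfl
    rw [he]
    infer_instance

end Groth.Agent.Quot15

end
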