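import Groth.Agent.Quot15.FibreReg
import Groth.Agent.KFlatLib.Scheme.QCohTensor
import Groth.Agent.Pic13Lib.Bdd.HomPush

/-!
# Presentations by twists of free modules
-/

set_option autoImplicit false
set_option linter.style.haveILetI false
set_option backward.isDefEq.respectTransparency false
set_option backward.isDefEq.respectTransparency.types false

universe u

open CategoryTheory CategoryTheory.Limits AlgebraicGeometry TopologicalSpace

noncomputable section

namespace Groth.Agent.Quot15

open Groth.Agent Groth.Agent.H28 Groth.Agent.H28.KRRTw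

theorem exists_pull_Ec {n : ℕ} {S X : Scheme.{u}} (i : X ⟶ KRR.PY n S) (p : ℕ) (ν : ℤ) :
    Nonempty ((Scheme.Modules.pullback (i ≫ toPn n S)).obj (Ec n p ν) ≅
      ∐ fun _ : Fin p => (Scheme.Modules.pullback i).obj (Twist.twistOver n S ν)) := by
  obtain ⟨e⟩ := H23.PicMul.pull (i ≫ toPn n S) (Twist.twistProjSpace n (ULift.{u} ℤ) ν)
    (FlatMod.freeMod (CohB1.ProjSpace n (ULift.{u} ℤ)) p)
  let M := (Scheme.Modules.pullback (i ≫ toPn n S)).obj (Twist.twistProjSpace n (ULift.{u} ℤ) ν)
  let eM : M ≅ (Scheme.Modules.pullback i).obj (Twist.twistOver n S ν) :=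
    ((Scheme.Modules.pullbackComp i (toPn n S)).app _).symm
  exact ⟨e ≪≫ (DCoh.tensorBi.obj M).mapIso (KFlatLib.pullFreeIso (i ≫ toPn n S) p) ≪≫
    PreservesCoproduct.iso (DCoh.tensorBi.obj M) _ ≪≫ Sigma.mapIso fun _ => KFlatLib.tensorUnitIso M ≪≫ eM⟩

end Groth.Agent.Quot15

end
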