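import Groth.Agent.Quot15.Cart
import Groth.Agent.Quot15.Hil

/-!
# The stratum of families in the Grassmannian
-/

set_option autoImplicit false
set_option linter.style.haveILetI false
set_option linter.unusedSectionVars false
set_option backward.isDefEq.respectTransparency false
set_option backward.isDefEq.respectTransparency.types false
set_option maxHeartbeats 500000

universe u

open CategoryTheory CategoryTheory.Limits AlgebraicGeometry TopologicalSpace

noncomputable section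

namespace Groth.Agent.Quot15

open Groth.Agent Groth.Agent.H28 Groth.Agent.H28.KRRTw Grass

variable {n : ℕ} {E : (CohB1.ProjSpace n (ULift.{u} ℤ)).Modules}

/-- The cokernel cut out by a quotient of the base module. -/
theorem exists_cart (hlf : FlatMod.IsFinLocFree E) (hE : KRegK0.RP n BZ.{u} (ET E BZ)) {T : Scheme.{u}}
    [IsLocallyNoetherian T] {L₀ : T.Modules} (hL₀ : Coh.IsQCoh L₀)
    (t₀ : (Scheme.Modules.pullback (toB T)).obj (G₀ E) ⟶ L₀) (he : Epi t₀) :
    ∃ (F : (KRR.PY n T).Modules) (τ : ET E T ⟶ F), Coh.IsCoh F ∧ Epi τ ∧ Cart t₀ τ := by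
  haveI := isLocallyNoetherian_PY (n := n) T
  haveI : Epi (qpr E t₀) := H23.GrassFlag.epi_quotBC _ _
  let q := qpr E t₀
  let c := kernel.ι q ≫ β E T
  have hker : Coh.IsQCoh (kernel q) := QCoh.isQCoh_kernel
    (QCoh.isQCoh_pullback _ (QCoh.isQCoh_of_isFinLocFree (qcoh_G₀ hE))) (QCoh.isQCoh_pullback _ hL₀) q
  have hcoh : Coh.IsCoh (cokernel c) := QCoh.isCoh_cokernel hker (KZ.LFRes.flf_isCoh (isFinLocFree_ET hlf T)) c
  let u := Abelian.epiDesc q (β E T ≫ cokernel.π c) ((Category.assoc _ _ _).symm.trans (cokernel.condition c))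
  have hu : q ≫ u = β E T ≫ cokernel.π c := Abelian.comp_epiDesc _ _ _
  refine ⟨cokernel c, cokernel.π c, hcoh, inferInstance, u, ⟨⟨hu.symm⟩, ⟨PushoutCocone.IsColimit.mk _
    (fun s => cokernel.desc c s.inl ((Category.assoc _ _ _).trans ((congrArg (kernel.ι q ≫ ·) s.condition).trans
      ((Category.assoc _ _ _).symm.trans ((congrArg (· ≫ s.inr) (kernel.condition q)).trans zero_comp)))))
    (fun s => cokernel.π_desc _ _ _) (fun s => ?_) fun s m hm _ => ?_⟩⟩⟩
  · rw [← cancel_epi q, ← Category.assoc, hu, Category.assoc, cokernel.π_desc]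
    exact s.condition
  · rw [← cancel_epi (cokernel.π c), hm, cokernel.π_desc]

variable (hlf : FlatMod.IsFinLocFree E) (hE : KRegK0.RP n BZ.{u} (ET E BZ)) {Φ : Polynomial ℚ} (hG : Good E Φ)
  {G : Scheme.{u}} [IsLocallyNoetherian G] {π : G ⟶ BZ.{u}} {Qu : G.Modules}
  {qu : (Scheme.Modules.pullback π).obj (G₀ E) ⟶ Qu} (hGr : Grass.IsGrass π (G₀ E) (rk Φ) Qu qu)

include hlf hE hG hGr in
/-- The families form a subscheme of the Grassmannian. -/
theorem exists_stratum : ∃ (FG : (KRR.PY n G).Modules) (τ : ET E G ⟶ FG) (W : Scheme.{u}) (j : W ⟶ G),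
    Coh.IsCoh FG ∧ IsImmersion j ∧ IsLocallyNoetherian W ∧ Fam Φ (pull j τ) ∧
    (∀ (T : Scheme.{u}) [IsLocallyNoetherian T] (φ : T ⟶ G), Fam Φ (pull φ τ) → ∃ l, l ≫ j = φ) ∧
    (∀ (T : Scheme.{u}) [IsLocallyNoetherian T] (L : (KRR.PY n T).Modules) (t : ET E T ⟶ L), Fam Φ t →
      ∃! h : T ⟶ G, Same (pull h τ) t) ∧
    (∀ (K : Type u) [Field K] (φ : Spec (CommRingCat.of K) ⟶ G), (∀ z, φ z ∈ Set.range j) → Fam Φ (pull φ τ)) := by
  have hπ : π = toB G := specULiftZIsTerminal.hom_ext _ _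
  subst hπ
  haveI := hGr.epi
  obtain ⟨FG, τ, hF, hτ, hC⟩ := exists_cart hlf hE (QCoh.isQCoh_of_isFinLocFree fun x =>
    (hGr.rank x).elim fun U h => ⟨U, rk Φ, h⟩) qu hGr.epi
  haveI := hτ
  haveI := isLocallyNoetherian_PY (n := n) G
  obtain ⟨W, j, hj, hu, hrange⟩ := FlatG.exists_stratum hF.1 (iSup_affineOpens_eq_top G)
    (fun V : G.affineOpens => FlatG.localStrata_pn hF V.2) Φ
  haveI := hj
  have hiff : ∀ (T : Scheme.{u}) [IsLocallyNoetherian T] (φ : T ⟶ G),
      (Fam Φ (pull φ τ) ↔ (FlatG.FlatC (KRR.pr n G) FG φ ∧ ∀ t, FlatG.hilPn hF (φ t) = Φ)) := by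
    intro T _ φ
    have hb : ∀ (y : T) (m : ℤ), chi T ((Scheme.Modules.pullback (PnBC.ψ (n := n) φ)).obj FG) y m =
        chi G FG (φ y) m := fun y m => chi_bc hF.1 φ y m
    have hfc := FlatG.flatC_iff_isPullback hF.1 (SeesawX.PnFibre.isPullback_ψ (n := n) φ)
    constructor
    · intro h
      refine ⟨hfc.1 h.flat, fun y => Polynomial.eq_of_infinite_eval_eq _ _ ?_⟩
      refine (Set.infinite_range_of_injective (fun a b => Int.cast_injective (α := ℚ) (a₁ := a) (a₂ := b))).mono ?_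
      rintro _ ⟨m, rfl⟩
      exact (chi_eq_hilPn hF (φ y) m).symm.trans ((congrArg Int.cast (hb y m)).symm.trans (h.hil y m))
    · rintro ⟨h1, h2⟩
      exact ⟨H23.GrassFlag.epi_quotBC _ τ, ZClosLib.isCoh_pullback _ hF, hfc.2 h1,
        fun y m => by rw [hb, chi_eq_hilPn hF, h2]⟩
  have hW : IsLocallyNoetherian W := LocallyOfFiniteType.isLocallyNoetherian j
  have hcart : ∀ {T : Scheme.{u}} (h : T ⟶ G),
      Cart (quotBC (specULiftZIsTerminal.hom_ext (h ≫ toB G) (toB T)) qu) (pull h τ) := fun h => hC.pull h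
  refine ⟨FG, τ, W, j, hF, hj, hW, (hiff W j).2 ((hu j).1 ⟨𝟙 _, Category.id_comp _⟩),
    fun T _ φ h => (hu φ).2 ((hiff T φ).1 h), fun T _ L t ht => ?_, fun K _ φ hφ => (hiff _ φ).2 ⟨?_, fun z => ?_⟩⟩
  · obtain ⟨h, ⟨hg, e, he⟩, huniq⟩ := hGr.univ T (toB T) _ (rank_push_quot hlf hG ht) (adj₀ t)
      (epi_adj₀ hlf hE hG ht)
    refine ⟨h, ((hcart h).congr_left (show Same _ (adj₀ t) from ⟨e, he⟩)).same (cart_adj₀ hlf hE hG ht), fun h' hh' => ?_⟩
    obtain ⟨e', he'⟩ := ((hcart h').congr_right hh').same_adj₀ hlf hE hG ht (H23.GrassFlag.epi_quotBC _ qu)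
      (H23.GrassFlag.rank_pullback _ hGr.rank)
    exact huniq h' ⟨_, e', he'⟩
  · exact FlatG.isFlatOver_spec_field _ _
  · have := hφ z
    rw [hrange] at this
    exact this

end Groth.Agent.Quot15

end
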