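import Groth.Agent.Quot15.Fam
import Groth.Agent.QCoh.AnnIdeal
import Groth.Agent.QCoh.RpushStalk
import Groth.Agent.KExact.ClosedBC

/-!
# Modules killed by a closed subscheme; quotients through a closed immersion
-/

set_option autoImplicit false
set_option linter.style.haveILetI false
set_option linter.unusedSectionVars false
set_option backward.isDefEq.respectTransparency false
set_option backward.isDefEq.respectTransparency.types false

universe u

open CategoryTheory CategoryTheory.Limits AlgebraicGeometry TopologicalSpace Opposite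

noncomputable section

namespace Groth.Agent.Quot15

open Groth.Agent

/-! ### Two ways of base changing a quotient -/

section twoSteps

variable {X G G' T : Scheme.{u}} {E : X.Modules} {π : G ⟶ X} {Q : G.Modules}

theorem same_quotBC_two {π' : G' ⟶ X} {a : G' ⟶ G} {b : T ⟶ G'} {g : T ⟶ G} {g' : T ⟶ X}
    (ha : a ≫ π = π') (hb : b ≫ a = g) (hg : g ≫ π = g') (hbπ : b ≫ π' = g')
    (q : (Scheme.Modules.pullback π).obj E ⟶ Q) :
    Same (Grass.quotBC hg q) (Grass.quotBC hbπ (Grass.quotBC ha q)) := by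
  haveI : IsIso (Grass.quotBC hb (𝟙 ((Scheme.Modules.pullback a).obj Q))) := H23.ProjBd.isIso_quotBC_id _
  refine ⟨asIso (Grass.quotBC hb (𝟙 _)), ?_⟩
  rw [asIso_hom, H23.GrassFlag.quotBC_quotBC ha hb hg hbπ q (𝟙 _), Category.comp_id]

theorem same_quotBC_square {A B : Scheme.{u}} {a₁ : A ⟶ G} {a₂ : B ⟶ G} {b₁ : T ⟶ A} {b₂ : T ⟶ B}
    (hsq : b₁ ≫ a₁ = b₂ ≫ a₂) {π₁ : A ⟶ X} {π₂ : B ⟶ X} {g' : T ⟶ X} (h₁ : a₁ ≫ π = π₁) (h₁' : b₁ ≫ π₁ = g')
    (h₂ : a₂ ≫ π = π₂) (h₂' : b₂ ≫ π₂ = g') (q : (Scheme.Modules.pullback π).obj E ⟶ Q) :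
    Same (Grass.quotBC h₁' (Grass.quotBC h₁ q)) (Grass.quotBC h₂' (Grass.quotBC h₂ q)) := by
  have hg : (b₁ ≫ a₁) ≫ π = g' := by rw [Category.assoc, h₁, h₁']
  exact (same_quotBC_two h₁ rfl hg h₁' q).symm.trans (same_quotBC_two h₂ hsq.symm hg h₂' q)

theorem Same.comp_left {Y : Scheme.{u}} {N M L L' : Y.Modules} {t : M ⟶ L} {t' : M ⟶ L'} (h : Same t t')
    (s : N ⟶ M) : Same (s ≫ t) (s ≫ t') := by
  obtain ⟨e, he⟩ := h
  exact ⟨e, by rw [Category.assoc, he]⟩

theorem Same.of_comp_left {Y : Scheme.{u}} {N M L L' : Y.Modules} {t : M ⟶ L} {t' : M ⟶ L'} {s : N ⟶ M} [Epi s]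
    (h : Same (s ≫ t) (s ≫ t')) : Same t t' := by
  obtain ⟨e, he⟩ := h
  exact ⟨e, by rw [← cancel_epi s, ← Category.assoc, he]⟩

end twoSteps

/-! ### Modules killed by a closed subscheme -/

variable {Z Y : Scheme.{u}} (i : Z ⟶ Y) [IsClosedImmersion i]

/-- The module comes from the closed subscheme. -/
abbrev Kil (G : Y.Modules) : Prop := IsIso ((Scheme.Modules.pullbackPushforwardAdjunction i).unit.app G)

theorem kil_push (N : Z.Modules) : Kil i ((Scheme.Modules.pushforward i).obj N) := by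
  haveI := KExact.isIso_counit_closed i
  exact IsIso.of_isIso_fac_right ((Scheme.Modules.pullbackPushforwardAdjunction i).right_triangle_components N)

variable {i}

theorem kil_of_iso {G G' : Y.Modules} (e : G ≅ G') (h : Kil i G) : Kil i G' :=
  (NatTrans.isIso_app_iff_of_iso (Scheme.Modules.pullbackPushforwardAdjunction i).unit e).1 h

theorem kil_of_epi {G G' : Y.Modules} (hG : Coh.IsQCoh G) (hG' : Coh.IsQCoh G') (q : G ⟶ G') [Epi q]
    (h : Kil i G) : Kil i G' :=
  (QCoh.isIso_unit_closed_iff i hG').2 fun U a ha s => by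
    obtain ⟨x, rfl⟩ := QCoh.app_surjective_of_epi hG hG' q U.2 s
    show a • (QCoh.appLin q U.1) x = 0
    rw [← map_smul, (QCoh.isIso_unit_closed_iff i hG).1 h U a ha x, map_zero]

/-- Inverse images of killed modules are killed. -/
theorem kil_pullback {Z' Y' : Scheme.{u}} {i' : Z' ⟶ Y'} [IsClosedImmersion i'] {g' : Z' ⟶ Z} {g : Y' ⟶ Y}
    (sq : IsPullback g' i' i g) {G : Y.Modules} (hG : Coh.IsQCoh G) (hft : CohB1.IsFT G) (h : Kil i G) :
    Kil i' ((Scheme.Modules.pullback g).obj G) := by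
  have hq := QCoh.isQCoh_pullback g hG
  have hft' := QCoh.isFT_pullback g hG hft
  let N := (Scheme.Modules.pullback g).obj G
  let I := QCoh.annIdeal hq hft'
  have hle : i.ker ≤ I.map g := by
    refine Scheme.IdealSheafData.le_ofIdeals_iff.2 fun U a ha => ?_
    show (I.subschemeι ≫ g).app U.1 a = 0
    refine TopCat.Sheaf.eq_of_locally_eq' I.subscheme.sheaf
      (fun W : {W : Y'.affineOpens // W.1 ≤ g ⁻¹ᵁ U.1} => I.subschemeι ⁻¹ᵁ W.1.1) _
      (fun W => homOfLE (I.subschemeι.preimage_mono W.2)) ?_ _ _ fun W => ?_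
    · intro y hy
      obtain ⟨_, ⟨W, hW, rfl⟩, hyW, hWle⟩ := Y'.isBasis_affineOpens.exists_subset_of_mem_open
        (show I.subschemeι y ∈ g ⁻¹ᵁ U.1 from hy) (g ⁻¹ᵁ U.1).isOpen
      exact Opens.mem_iSup.2 ⟨⟨⟨W, hW⟩, hWle⟩, hyW⟩
    obtain ⟨⟨W, hW⟩, hWU⟩ := W
    have hann : g.appLE U.1 W hWU a ∈ I.ideal ⟨W, hW⟩ := by
      refine Module.mem_annihilator.2 fun s => ?_
      letI : Algebra Γ(Y, U.1) Γ(Y', W) := (g.appLE U.1 W hWU).hom.toAlgebra
      letI : Module Γ(Y, U.1) Γ(N, W) := Module.compHom _ (g.appLE U.1 W hWU).hom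
      haveI : IsScalarTower Γ(Y, U.1) Γ(Y', W) Γ(N, W) :=
        ⟨fun r b c => mul_smul ((g.appLE U.1 W hWU).hom r) b c⟩
      let l : Γ(G, U.1) →ₗ[Γ(Y, U.1)] Γ(N, W) :=
        { toFun := QCoh.pullSec g G hWU
          map_add' := QCoh.pullSec_add g G hWU
          map_smul' := QCoh.pullSec_smul g G hWU }
      have hb := QCoh.isBaseChange_pullback U.2 g hW hG hWU (fun r => rfl) l fun x => rfl
      induction s using hb.inductionOn with
      | zero => exact smul_zero _
      | tmul x =>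
        show a • l x = 0
        rw [← map_smul, (QCoh.isIso_unit_closed_iff i hG).1 h U a ha x, map_zero]
      | smul r n hn => rw [smul_comm, hn, smul_zero]
      | add n₁ n₂ h₁ h₂ => rw [smul_add, h₁, h₂, add_zero]
    rw [← I.ker_subschemeι, Scheme.Hom.ker_apply, RingHom.mem_ker] at hann
    rw [map_zero, ← hann]
    show ((I.subschemeι ≫ g).app U.1 ≫ I.subscheme.presheaf.map _) a =
      (g.appLE U.1 W hWU ≫ I.subschemeι.app W) a
    congr 2
    rw [Scheme.Hom.comp_app, Category.assoc, Scheme.Hom.appLE, Category.assoc,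
      Scheme.Hom.naturality]
    rfl
  have hker : i'.ker = i.ker.comap g := by
    rw [← Scheme.IdealSheafData.ker_fst_of_isClosedImmersion, ← sq.flip.isoPullback_inv_fst, Scheme.Hom.ker_comp_of_isIso]
  refine (QCoh.isIso_unit_closed_iff i' hq).2 fun W a ha s => ?_
  rw [hker] at ha
  exact Module.mem_annihilator.1 (Scheme.IdealSheafData.le_map_iff_comap_le.1 hle W ha) s

variable (i)

/-- A map to a killed module is determined by its inverse image. -/
theorem exists_desc_kil {M A G : Y.Modules} (hG : Kil i G) (a : M ⟶ A) (w : M ⟶ G)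
    (y : (Scheme.Modules.pullback i).obj A ⟶ (Scheme.Modules.pullback i).obj G)
    (hy : (Scheme.Modules.pullback i).map a ≫ y = (Scheme.Modules.pullback i).map w) :
    ∃ v, a ≫ v = w := by
  let adj := Scheme.Modules.pullbackPushforwardAdjunction i
  haveI : IsIso (adj.unit.app G) := hG
  refine ⟨adj.unit.app A ≫ (Scheme.Modules.pushforward i).map y ≫ inv (adj.unit.app G), ?_⟩
  rw [← cancel_mono (adj.unit.app G), ← Category.assoc a, ← adj.unit_naturality a]
  simp only [Category.assoc, IsIso.inv_hom_id, Category.comp_id]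
  rw [← Functor.map_comp, hy]
  exact adj.unit_naturality w

theorem same_of_kil {M G G' : Y.Modules} {w : M ⟶ G} {w' : M ⟶ G'} (hG : Kil i G) (hG' : Kil i G')
    (h : Same ((Scheme.Modules.pullback i).map w) ((Scheme.Modules.pullback i).map w')) : Same w w' := by
  obtain ⟨e, he⟩ := h
  let adj := Scheme.Modules.pullbackPushforwardAdjunction i
  haveI : IsIso (adj.unit.app G) := hG
  haveI : IsIso (adj.unit.app G') := hG'
  refine ⟨asIso (adj.unit.app G) ≪≫ (Scheme.Modules.pushforward i).mapIso e ≪≫ (asIso (adj.unit.app G')).symm, ?_⟩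
  simp only [Iso.trans_hom, asIso_hom, Iso.symm_hom, asIso_inv, Functor.mapIso_hom]
  rw [← Category.assoc, ← adj.unit_naturality w, ← cancel_mono (adj.unit.app G')]
  simp only [Category.assoc, IsIso.inv_hom_id, Category.comp_id]
  rw [← Functor.map_comp, he]
  exact adj.unit_naturality w'

theorem epi_of_kil {M G : Y.Modules} (hM : Coh.IsQCoh M) (hG : Coh.IsQCoh G) (w : M ⟶ G) (h : Kil i G)
    [Epi ((Scheme.Modules.pullback i).map w)] : Epi w := by
  have hC := QCoh.isQCoh_cokernel hM hG w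
  haveI : IsIso ((Scheme.Modules.pullbackPushforwardAdjunction i).unit.app (cokernel w)) :=
    kil_of_epi hG hC (cokernel.π w) h
  haveI : PreservesColimitsOfSize.{0, 0} (Scheme.Modules.pullback i) :=
    (Scheme.Modules.pullbackPushforwardAdjunction i).leftAdjoint_preservesColimits
  refine Preadditive.epi_of_cokernel_zero ?_
  haveI := (Scheme.Modules.pullbackPushforwardAdjunction i).left_adjoint_additive
  have h0 : (Scheme.Modules.pullback i).map (cokernel.π w) = 0 := by
    rw [← cancel_epi ((Scheme.Modules.pullback i).map w), ← Functor.map_comp, cokernel.condition,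
      Functor.map_zero, comp_zero]
  rw [← cancel_mono ((Scheme.Modules.pullbackPushforwardAdjunction i).unit.app (cokernel w)), zero_comp,
    ← (Scheme.Modules.pullbackPushforwardAdjunction i).unit_naturality (cokernel.π w), h0, Functor.map_zero,
    comp_zero]

end Groth.Agent.Quot15

end
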