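import Groth.Agent.Quot15.SubX
import Groth.Agent.Quot15.Regular
import Groth.Agent.ArtFunLib.HilbLink
import Groth.Agent.S9349

/-!
# Quotients on a closed subscheme of projective space and quotients on projective space
-/

set_option autoImplicit false
set_option linter.style.haveILetI false
set_option linter.unusedSectionVars false
set_option backward.isDefEq.respectTransparency false
set_option backward.isDefEq.respectTransparency.types false
set_option maxHeartbeats 500000

universe u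

open CategoryTheory CategoryTheory.Limits AlgebraicGeometry TopologicalSpace

noncomputable section

namespace Groth.Agent.Quot15

open Groth.Agent Groth.Agent.H28 Groth.Agent.H28.KRRTw

/-- A quotient on a closed subscheme as the pull-back of a quotient upstairs. -/
theorem exists_kil_lift {Z Y P : Scheme.{u}} (i : Z ⟶ Y) [IsClosedImmersion i] {g : Y ⟶ P} {g' : Z ⟶ P}
    (h : i ≫ g = g') {M : P.Modules} {N : Z.Modules} (s : (Scheme.Modules.pullback g').obj M ⟶ N) :
    ∃ η : (Scheme.Modules.pullback g).obj M ⟶ (Scheme.Modules.pushforward i).obj N,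
      Kil i ((Scheme.Modules.pushforward i).obj N) ∧ Same (Grass.quotBC h η) s := by
  let adj := Scheme.Modules.pullbackPushforwardAdjunction i
  haveI := KExact.isIso_counit_closed i
  let u := (H23.GrassExist.θ M i h).hom ≫ s
  refine ⟨adj.homEquiv _ _ u, kil_push i N, asIso (adj.counit.app N), ?_⟩
  rw [← cancel_epi (H23.GrassExist.θ M i h).hom, ← Category.assoc, H23.GrassExist.θ_hom_quotBC]
  exact ((adj.homEquiv_counit _ _ _).symm.trans (Equiv.symm_apply_apply (adj.homEquiv _ _) u) :)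

variable {n : ℕ} {S X : Scheme.{u}} (f : X ⟶ S) (i : X ⟶ KRR.PY n S) [IsClosedImmersion i]
  (hf : i ≫ CohB1.ProjSpaceOver.toBase n S = f)

/-- The map from the closed subscheme over `T` to `P^n_T`. -/
def iT (T : Over S) : PicF.XT f T ⟶ KRR.PY n T.left :=
  pullback.lift (pullback.fst f T.hom ≫ i ≫ toPn n S) (PicF.XTproj f T) (specULiftZIsTerminal.hom_ext _ _)

theorem iT_pr (T : Over S) : iT f i T ≫ KRR.pr n T.left = PicF.XTproj f T := pullback.lift_snd _ _ _

theorem iT_toPn (T : Over S) : pullback.fst f T.hom ≫ i ≫ toPn n S = iT f i T ≫ toPn n T.left :=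
  (pullback.lift_fst _ _ _).symm

theorem iT_ψ (T : Over S) (hf : i ≫ CohB1.ProjSpaceOver.toBase n S = f) :
    pullback.fst f T.hom ≫ i = iT f i T ≫ PnBC.ψ (n := n) T.hom := by
  refine pullback.hom_ext ?_ ?_
  · refine ((Category.assoc _ _ _).trans (iT_toPn f i T)).trans ?_
    rw [Category.assoc]
    exact congrArg (iT f i T ≫ ·) (PnBC.ψ_toPn (n := n) T.hom).symm
  · show (pullback.fst f T.hom ≫ i) ≫ KRR.pr n S = (iT f i T ≫ PnBC.ψ T.hom) ≫ KRR.pr n S
    rw [Category.assoc, Category.assoc, PnBC.ψ_pr, ← Category.assoc (iT f i T), iT_pr]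
    exact (congrArg (pullback.fst f T.hom ≫ ·) hf).trans pullback.condition

include hf in
theorem isPullback_iT (T : Over S) :
    IsPullback (pullback.fst f T.hom) (iT f i T) i (PnBC.ψ (n := n) T.hom) := by
  refine IsPullback.of_bot ?_ (iT_ψ f i T hf) (SeesawX.PnFibre.isPullback_ψ T.hom)
  rw [hf, show iT f i T ≫ CohB1.ProjSpaceOver.toBase n T.left = PicF.XTproj f T from iT_pr f i T]
  exact IsPullback.of_hasPullback f T.hom

theorem iT_XTmap {T T' : Over S} (g : T' ⟶ T) :
    PicF.XTmap f g ≫ iT f i T = iT f i T' ≫ PnBC.ψ (n := n) g.left := by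
  refine pullback.hom_ext ?_ ?_
  · show (PicF.XTmap f g ≫ iT f i T) ≫ toPn n T.left = (iT f i T' ≫ PnBC.ψ g.left) ≫ toPn n T.left
    rw [Category.assoc, Category.assoc, PnBC.ψ_toPn, ← iT_toPn, ← iT_toPn, ← Category.assoc, FGA.XTmap_fst]
  · show (PicF.XTmap f g ≫ iT f i T) ≫ KRR.pr n T.left = (iT f i T' ≫ PnBC.ψ g.left) ≫ KRR.pr n T.left
    rw [Category.assoc, Category.assoc, PnBC.ψ_pr, iT_pr, ← Category.assoc, iT_pr, ArtFunLib.HilbLink.XTmap_snd]

theorem isPullback_iT_map {T T' : Over S} (g : T' ⟶ T) :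
    IsPullback (PicF.XTmap f g) (iT f i T') (iT f i T) (PnBC.ψ (n := n) g.left) := by
  refine IsPullback.of_bot ?_ (iT_XTmap f i g) (SeesawX.PnFibre.isPullback_ψ g.left)
  rw [show iT f i T ≫ CohB1.ProjSpaceOver.toBase n T.left = PicF.XTproj f T from iT_pr f i T,
    show iT f i T' ≫ CohB1.ProjSpaceOver.toBase n T'.left = PicF.XTproj f T' from iT_pr f i T']
  exact ArtFunLib.HilbLink.isPullback_XTmap f g

include hf in
theorem isClosedImmersion_iT (T : Over S) : IsClosedImmersion (iT f i T) :=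
  MorphismProperty.of_isPullback (P := @IsClosedImmersion) (isPullback_iT f i hf T) inferInstance

variable {E₀ : (CohB1.ProjSpace n (ULift.{u} ℤ)).Modules} {E : X.Modules}

/-- Restriction of a quotient to the closed subscheme. -/
abbrev res {T : Over S} {G : (KRR.PY n T.left).Modules} (w : ET E₀ T.left ⟶ G) :
    (Scheme.Modules.pullback (iT f i T ≫ toPn n T.left)).obj E₀ ⟶ (Scheme.Modules.pullback (iT f i T)).obj G :=
  Grass.quotBC rfl w

variable (σ : (Scheme.Modules.pullback (i ≫ toPn n S)).obj E₀ ⟶ E)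

/-- The presentation of the module over `T`. -/
abbrev σT (T : Over S) : (Scheme.Modules.pullback (iT f i T ≫ toPn n T.left)).obj E₀ ⟶ FGA.ET f E T :=
  Grass.quotBC (iT_toPn f i T) σ

/-- The pull-back of a quotient. -/
abbrev pullX {T T' : Over S} (g : T' ⟶ T) {L : (PicF.XT f T).Modules} (t : FGA.ET f E T ⟶ L) :
    FGA.ET f E T' ⟶ (Scheme.Modules.pullback (PicF.XTmap f g)).obj L :=
  Grass.quotBC (FGA.XTmap_fst f g) t

/-- A family of quotients on the closed subscheme. -/
structure FamX (Φ : Polynomial ℚ) {T : Over S} {L : (PicF.XT f T).Modules} (t : FGA.ET f E T ⟶ L) : Prop where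
  epi : Epi t
  coh : Coh.IsCoh L
  flat : FlatMod.IsFlatOver (PicF.XTproj f T) L
  hil : HilIs Φ ((Scheme.Modules.pushforward (iT f i T)).obj L)

/-- `w` is the quotient upstairs of `t`. -/
structure Lift {T : Over S} {G : (KRR.PY n T.left).Modules} (w : ET E₀ T.left ⟶ G) {L : (PicF.XT f T).Modules}
    (t : FGA.ET f E T ⟶ L) : Prop where
  kil : Kil (iT f i T) G
  same : Same (res f i w) (σT f i σ T ≫ t)

theorem same_map_of_same_quotBC {Z Y P : Scheme.{u}} (a : Z ⟶ Y) {g : Y ⟶ P} {g' : Z ⟶ P} (h : a ≫ g = g')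
    {M : P.Modules} {G G' : Y.Modules} {w : (Scheme.Modules.pullback g).obj M ⟶ G}
    {w' : (Scheme.Modules.pullback g).obj M ⟶ G'} (hs : Same (Grass.quotBC h w) (Grass.quotBC h w')) :
    Same ((Scheme.Modules.pullback a).map w) ((Scheme.Modules.pullback a).map w') := by
  rw [← H23.GrassExist.θ_hom_quotBC h, ← H23.GrassExist.θ_hom_quotBC h]
  exact hs.comp_left _

variable {f i σ} {T : Over S} {G G' : (KRR.PY n T.left).Modules} {w : ET E₀ T.left ⟶ G} {w' : ET E₀ T.left ⟶ G'}
  {L L' : (PicF.XT f T).Modules} {t : FGA.ET f E T ⟶ L} {t' : FGA.ET f E T ⟶ L'}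

theorem Lift.same_iff [IsClosedImmersion (iT f i T)] [Epi σ] (h : Lift f i σ w t) (h' : Lift f i σ w' t') :
    Same w w' ↔ Same t t' := by
  haveI : Epi (σT f i σ T) := H23.GrassFlag.epi_quotBC _ σ
  refine ⟨fun hs => ((h.same.symm.trans (Same.quotBC _ hs)).trans h'.same).of_comp_left, fun hs => ?_⟩
  exact same_of_kil _ h.kil h'.kil
    (same_map_of_same_quotBC _ _ ((h.same.trans (hs.comp_left _)).trans h'.same.symm))

theorem Lift.of_same (h : Lift f i σ w t) (hs : Same t t') : Lift f i σ w t' :=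
  ⟨h.kil, h.same.trans (hs.comp_left _)⟩

theorem Lift.pull {T' : Over S} (g : T' ⟶ T) [IsClosedImmersion (iT f i T)] [IsClosedImmersion (iT f i T')]
    [IsLocallyNoetherian T.left] (hG : Coh.IsCoh G) (h : Lift f i σ w t) :
    Lift f i σ (Quot15.pull g.left w) (pullX f g t) := by
  haveI := isLocallyNoetherian_PY (n := n) T.left
  refine ⟨kil_pullback (isPullback_iT_map f i g) hG.1 (QCoh.isFT_of_isFP (QCoh.isCoh_iff_isFP.1 hG)) h.kil, ?_⟩
  have hk : PicF.XTmap f g ≫ iT f i T ≫ toPn n T.left = iT f i T' ≫ toPn n T'.left := by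
    rw [← iT_toPn, ← Category.assoc, FGA.XTmap_fst, iT_toPn]
  refine (same_quotBC_square (iT_XTmap f i g).symm (PnBC.ψ_toPn g.left) rfl rfl hk w).trans ?_
  refine ((Same.quotBC hk h.same).trans ?_)
  rw [σT, pullX, H23.GrassFlag.quotBC_quotBC (iT_toPn f i T) (FGA.XTmap_fst f g) (iT_toPn f i T') hk σ t]
  exact Same.refl _

theorem exists_lift [IsClosedImmersion (iT f i T)] (t : FGA.ET f E T ⟶ L) :
    ∃ w : ET E₀ T.left ⟶ (Scheme.Modules.pushforward (iT f i T)).obj L, Lift f i σ w t := by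
  obtain ⟨η, hk, hs⟩ := exists_kil_lift (iT f i T) (g := toPn n T.left) rfl (σT f i σ T ≫ t)
  exact ⟨η, hk, hs⟩

theorem Lift.exists_push_iso (h : Lift f i σ w t) :
    Nonempty (G ≅ (Scheme.Modules.pushforward (iT f i T)).obj L) := by
  obtain ⟨e, -⟩ := h.same
  haveI := h.kil
  exact ⟨asIso ((Scheme.Modules.pullbackPushforwardAdjunction (iT f i T)).unit.app G) ≪≫
    (Scheme.Modules.pushforward (iT f i T)).mapIso e⟩

theorem famX_of_fam [IsClosedImmersion (iT f i T)] [IsLocallyNoetherian T.left] {Φ : Polynomial ℚ}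
    (h : Lift f i σ w t) (hw : Fam Φ w) : FamX f i Φ t := by
  haveI := isLocallyNoetherian_PY (n := n) T.left
  haveI : Epi (σT f i σ T ≫ t) := by
    haveI := hw.epi
    haveI : Epi (res f i w) := H23.GrassFlag.epi_quotBC _ w
    exact h.same.epi
  obtain ⟨e⟩ := h.exists_push_iso
  obtain ⟨e', -⟩ := h.same
  have hL : Coh.IsCoh L := isCoh_of_iso e' (ZClosLib.isCoh_pullback _ hw.coh)
  refine ⟨epi_of_epi (σT f i σ T) t, hL, ?_, hw.hil.of_iso e⟩
  rw [← iT_pr f i T]
  exact (S9349.result (iT f i T) (KRR.pr n T.left) L hL.1).2 (LimModLib.isFlatOver_of_iso _ e hw.flat)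

theorem fam_of_famX [IsClosedImmersion (iT f i T)] [IsLocallyNoetherian T.left] [Epi σ] {Φ : Polynomial ℚ}
    (hlf : FlatMod.IsFinLocFree E₀) (h : Lift f i σ w t) (ht : FamX f i Φ t) : Fam Φ w := by
  haveI := isLocallyNoetherian_PY (n := n) T.left
  haveI : Epi (σT f i σ T) := H23.GrassFlag.epi_quotBC _ σ
  haveI := ht.epi
  obtain ⟨e⟩ := h.exists_push_iso
  have hG : Coh.IsCoh G := isCoh_of_iso e.symm (QCoh.isCoh_pushforward_finite _ ht.coh)
  refine ⟨?_, hG, ?_, ht.hil.of_iso e.symm⟩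
  · haveI : Epi (res f i w) := h.same.symm.epi
    haveI : Epi ((Scheme.Modules.pullback (iT f i T)).map w) := by
      rw [← H23.GrassExist.θ_hom_quotBC (rfl : iT f i T ≫ toPn n T.left = _)]
      infer_instance
    exact epi_of_kil _ (KZ.LFRes.flf_isCoh (isFinLocFree_ET hlf T.left)).1 hG.1 w h.kil
  · refine LimModLib.isFlatOver_of_iso _ e.symm ((S9349.result (iT f i T) (KRR.pr n T.left) L ht.coh.1).1 ?_)
    rw [iT_pr]
    exact ht.flat

/-! ### The quotient `i_*E` of the free family -/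

/-- The base change of `η₀` is the lift of the identity. -/
theorem lift_pull_η₀ (hf : i ≫ CohB1.ProjSpaceOver.toBase n S = f) [IsLocallyNoetherian S]
    [IsClosedImmersion (iT f i T)] {η₀ : ET E₀ S ⟶ (Scheme.Modules.pushforward i).obj E}
    (hη : Same (Grass.quotBC (rfl : i ≫ toPn n S = _) η₀) σ)
    (hF : Coh.IsCoh ((Scheme.Modules.pushforward i).obj E)) :
    Lift f i σ (Quot15.pull T.hom η₀) (𝟙 (FGA.ET f E T)) := by
  haveI := isLocallyNoetherian_PY (n := n) S
  refine ⟨kil_pullback (isPullback_iT f i hf T) hF.1 (QCoh.isFT_of_isFP (QCoh.isCoh_iff_isFP.1 hF))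
    (kil_push i E), ?_⟩
  rw [Category.comp_id]
  exact (same_quotBC_square (iT_ψ f i T hf).symm (PnBC.ψ_toPn T.hom) rfl rfl (iT_toPn f i T) η₀).trans
    (Same.quotBC _ hη)

/-- A lift factors through the base change of `η₀`. -/
theorem Lift.exists_fac [IsClosedImmersion (iT f i T)] (h : Lift f i σ w t) {A : (KRR.PY n T.left).Modules}
    {a : ET E₀ T.left ⟶ A} (ha : Lift f i σ a (𝟙 (FGA.ET f E T))) : ∃ v, a ≫ v = w := by
  obtain ⟨e, he⟩ := ha.same
  obtain ⟨e', he'⟩ := h.same.symm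
  refine exists_desc_kil _ h.kil a w (e.hom ≫ t ≫ e'.hom) ?_
  rw [Category.comp_id] at he
  rw [← H23.GrassExist.θ_hom_quotBC (rfl : iT f i T ≫ toPn n T.left = _),
    ← H23.GrassExist.θ_hom_quotBC (rfl : iT f i T ≫ toPn n T.left = _), Category.assoc]
  refine congrArg _ (Eq.trans ?_ he')
  rw [← Category.assoc, ← Category.assoc]
  exact congrArg (fun z => (z ≫ t) ≫ e'.hom) he

/-- A quotient factoring through the base change of `η₀` has a quotient downstairs. -/
theorem exists_lift_down [IsClosedImmersion (iT f i T)] {A : (KRR.PY n T.left).Modules} {a : ET E₀ T.left ⟶ A}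
    (ha : Lift f i σ a (𝟙 (FGA.ET f E T))) (hA : Coh.IsQCoh A) (hG : Coh.IsQCoh G) (v : A ⟶ G) [Epi v]
    (hv : a ≫ v = w) : ∃ (L : (PicF.XT f T).Modules) (t : FGA.ET f E T ⟶ L), Lift f i σ w t := by
  obtain ⟨e, he⟩ := ha.same.symm
  rw [Category.comp_id] at he
  refine ⟨_, e.hom ≫ (Scheme.Modules.pullback (iT f i T)).map v, kil_of_epi hA hG v ha.kil, Iso.refl _, ?_⟩
  rw [Iso.refl_hom, Category.comp_id, res, ← hv, H23.GrassFlag.quotBC_comp, ← Category.assoc (σT f i σ T), he]

end Groth.Agent.Quot15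

end
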